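import Mathlib
import Cfsg.Agent.Lib.MinDegree.Siegel
import Cfsg.Agent.Lib.MinDegree.WeilRep

/-!
Partial Weyl elements and the double cosets of the Siegel parabolic of `Sp_{2n}(F)`.
-/

set_option autoImplicit false

open Classical

namespace Cfsg.Agent.Lib.SpWeil

open Matrix Cfsg.Agent.Lib.MinDegree

variable {F : Type*} [Field F] {n : ℕ}

variable (F) in
/-- The indicator matrix of a set of coordinates. -/
noncomputable def indMat (J : Finset (Fin n)) : Matrix (Fin n) (Fin n) F :=
  diagonal fun i => if i ∈ J then 1 else 0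

theorem indMat_sq (J : Finset (Fin n)) : indMat F J * indMat F J = indMat F J := by
  rw [indMat, diagonal_mul_diagonal]
  exact congrArg diagonal (funext fun i => by split_ifs <;> simp)

theorem indMat_mul_compl (J : Finset (Fin n)) : indMat F J * (1 - indMat F J) = 0 := by
  rw [mul_sub, mul_one, indMat_sq, sub_self]

theorem compl_mul_indMat (J : Finset (Fin n)) : (1 - indMat F J) * indMat F J = 0 := by
  rw [sub_mul, one_mul, indMat_sq, sub_self]

theorem compl_sq (J : Finset (Fin n)) : (1 - indMat F J) * (1 - indMat F J) = 1 - indMat F J := by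
  rw [sub_mul, one_mul, indMat_mul_compl, sub_zero]

theorem indMat_transpose (J : Finset (Fin n)) : (indMat F J)ᵀ = indMat F J := diagonal_transpose _

theorem indMat_empty : indMat F (∅ : Finset (Fin n)) = 0 := by simp [indMat]

theorem indMat_union {A B : Finset (Fin n)} (h : Disjoint A B) :
    indMat F (A ∪ B) = indMat F A + indMat F B := by
  rw [indMat, indMat, indMat, diagonal_add]
  refine congrArg diagonal (funext fun i => ?_)
  have hd : i ∈ A → i ∉ B := fun ha hb => Finset.disjoint_left.1 h ha hb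
  by_cases ha : i ∈ A <;> by_cases hb : i ∈ B <;> simp_all

theorem indMat_mul_disjoint {A B : Finset (Fin n)} (h : Disjoint A B) : indMat F A * indMat F B = 0 := by
  rw [indMat, indMat, diagonal_mul_diagonal]
  refine (congrArg diagonal (funext fun i => ?_)).trans diagonal_zero
  have hd : i ∈ A → i ∉ B := fun ha hb => Finset.disjoint_left.1 h ha hb
  by_cases ha : i ∈ A <;> simp_all

variable (F) in
/-- The indicator as a symmetric matrix. -/
noncomputable def indSym (J : Finset (Fin n)) : symMat F n := ⟨indMat F J, indMat_transpose J⟩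

variable (F) in
/-- The partial Weyl element. -/
noncomputable def sigmaJ (J : Finset (Fin n)) : Matrix.symplecticGroup (Fin n) F :=
  siegelU (indSym F J) * siegelL (-indSym F J) * siegelU (indSym F J)

theorem sigmaJ_val (J : Finset (Fin n)) : (sigmaJ F J).1 =
    fromBlocks (1 - indMat F J) (indMat F J) (-indMat F J) (1 - indMat F J) := by
  show fromBlocks 1 (indSym F J).1 0 1 * fromBlocks 1 0 (-indSym F J).1 1 * fromBlocks 1 (indSym F J).1 0 1 = _
  rw [fromBlocks_multiply, fromBlocks_multiply]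
  simp only [indSym, NegMemClass.coe_neg, one_mul, mul_one, zero_mul, mul_zero, add_zero, zero_add, mul_neg, neg_mul,
    indMat_sq, add_mul, neg_add_cancel]
  congr 1 <;> simp [mul_add, sub_eq_add_neg, neg_mul, add_comm]

theorem sigmaJ_empty : sigmaJ F (∅ : Finset (Fin n)) = 1 :=
  Subtype.ext (by rw [sigmaJ_val, indMat_empty, sub_zero, neg_zero, fromBlocks_one]; rfl)

theorem sigmaJ_union {A B : Finset (Fin n)} (h : Disjoint A B) :
    sigmaJ F (A ∪ B) = sigmaJ F A * sigmaJ F B := by
  refine Subtype.ext ?_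
  show _ = (sigmaJ F A).1 * (sigmaJ F B).1
  rw [sigmaJ_val, sigmaJ_val, sigmaJ_val, fromBlocks_multiply, indMat_union h]
  have hAB := indMat_mul_disjoint (F := F) h
  have e : (1 - indMat F A) * (1 - indMat F B) = 1 - (indMat F A + indMat F B) := by
    rw [sub_mul, one_mul, mul_sub, mul_one, hAB, sub_zero]; abel
  have e1 : (1 - indMat F A) * indMat F B = indMat F B := by rw [sub_mul, one_mul, hAB, sub_zero]
  have e2 : indMat F A * (1 - indMat F B) = indMat F A := by rw [mul_sub, mul_one, hAB, sub_zero]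
  rw [e, e1, e2, mul_neg, neg_mul, mul_neg, neg_mul, hAB, e1, e2]
  congr 1 <;> abel

theorem siegelM_mul (A B : GL (Fin n) F) : siegelM (A * B) = siegelM A * siegelM B := by
  refine Subtype.ext ?_
  show fromBlocks (A * B).val 0 0 (A * B)⁻¹.valᵀ = fromBlocks A.val 0 0 A⁻¹.valᵀ * fromBlocks B.val 0 0 B⁻¹.valᵀ
  rw [fromBlocks_multiply, _root_.mul_inv_rev]
  simp [-Matrix.coe_units_inv, transpose_mul]

theorem siegelM_one : siegelM (1 : GL (Fin n) F) = 1 := by
  refine mul_left_cancel (a := siegelM (1 : GL (Fin n) F)) ?_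
  rw [← siegelM_mul, one_mul, mul_one]

theorem siegelM_inv (A : GL (Fin n) F) : siegelM A⁻¹ = (siegelM A)⁻¹ :=
  eq_inv_of_mul_eq_one_left (by rw [← siegelM_mul, inv_mul_cancel, siegelM_one])

/-- Membership in the Siegel parabolic. -/
def InP (g : Matrix.symplecticGroup (Fin n) F) : Prop := g.1.toBlocks₂₁ = 0

theorem inP_siegelM (A : GL (Fin n) F) : InP (siegelM A) := toBlocks_fromBlocks₂₁ _ _ _ _

theorem inP_siegelU (S : symMat F n) : InP (siegelU S) := toBlocks_fromBlocks₂₁ _ _ _ _

theorem sympl_rel (g : Matrix.symplecticGroup (Fin n) F) :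
    g.1.toBlocks₂₁ᵀ * g.1.toBlocks₁₁ = g.1.toBlocks₁₁ᵀ * g.1.toBlocks₂₁ ∧
      g.1.toBlocks₁₁ᵀ * g.1.toBlocks₂₂ - g.1.toBlocks₂₁ᵀ * g.1.toBlocks₁₂ = 1 ∧
      g.1.toBlocks₂₂ᵀ * g.1.toBlocks₁₂ = g.1.toBlocks₁₂ᵀ * g.1.toBlocks₂₂ := by
  have h : g.1ᵀ * Matrix.J (Fin n) F * g.1 = Matrix.J (Fin n) F := SymplecticGroup.mem_iff'.1 g.2
  rw [← fromBlocks_toBlocks g.1] at h
  rw [Matrix.J, fromBlocks_transpose, fromBlocks_multiply, fromBlocks_multiply, fromBlocks_inj] at h
  simp only [mul_zero, zero_add, add_zero, mul_one, mul_neg, neg_mul] at h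
  obtain ⟨h11, h12, -, h22⟩ := h
  refine ⟨?_, ?_, ?_⟩
  · rw [← sub_eq_zero, sub_eq_add_neg]; exact h11
  · have := congrArg Neg.neg h12
    rw [neg_neg] at this
    rw [← this]; abel
  · rw [← sub_eq_zero, sub_eq_add_neg]; exact h22

theorem exists_of_inP {g : Matrix.symplecticGroup (Fin n) F} (h : InP g) :
    ∃ (A : GL (Fin n) F) (S : symMat F n), g = siegelM A * siegelU S := by
  obtain ⟨-, h12, h22⟩ := sympl_rel g
  have h0 : g.1.toBlocks₂₁ = 0 := h
  rw [h0, transpose_zero, zero_mul, sub_zero] at h12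
  have hAD : g.1.toBlocks₂₂ᵀ * g.1.toBlocks₁₁ = 1 := by
    have := congrArg transpose h12
    rwa [transpose_mul, transpose_transpose, transpose_one] at this
  let A : GL (Fin n) F := ⟨g.1.toBlocks₁₁, g.1.toBlocks₂₂ᵀ, mul_eq_one_comm.1 hAD, hAD⟩
  refine ⟨A, ⟨g.1.toBlocks₂₂ᵀ * g.1.toBlocks₁₂, ?_⟩, Subtype.ext ?_⟩
  · rw [mem_symMat, transpose_mul, transpose_transpose, h22]
  · show g.1 = fromBlocks g.1.toBlocks₁₁ 0 0 (g.1.toBlocks₂₂ᵀ)ᵀ *
      fromBlocks 1 (g.1.toBlocks₂₂ᵀ * g.1.toBlocks₁₂) 0 1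
    conv_lhs => rw [← fromBlocks_toBlocks g.1, h0]
    rw [fromBlocks_multiply, transpose_transpose, ← mul_assoc, mul_eq_one_comm.1 hAD]
    simp

theorem exists_normalForm (C : Matrix (Fin n) (Fin n) F) :
    ∃ (M N : GL (Fin n) F) (J : Finset (Fin n)), M.val * C * N.val = -indMat F J := by
  obtain ⟨L, L', D, hD⟩ := Matrix.Pivot.exists_list_transvec_mul_mul_list_transvec_eq_diagonal C
  have hunit : ∀ L : List (TransvectionStruct (Fin n) F), IsUnit ((L.map TransvectionStruct.toMatrix).prod) := fun L => by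
    rw [Matrix.isUnit_iff_isUnit_det, TransvectionStruct.det_toMatrix_prod]; exact isUnit_one
  set d : Fin n → F := fun i => if D i = 0 then 1 else -(D i)⁻¹ with hd
  have hdu : IsUnit (diagonal d) := by
    rw [Matrix.isUnit_diagonal, Pi.isUnit_iff]
    intro i
    rw [isUnit_iff_ne_zero, hd]
    dsimp only
    split_ifs with hi
    · exact one_ne_zero
    · exact neg_ne_zero.2 (inv_ne_zero hi)
  refine ⟨(hdu.mul (hunit L)).unit, (hunit L').unit, Finset.univ.filter fun i => D i ≠ 0, ?_⟩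
  show diagonal d * (L.map TransvectionStruct.toMatrix).prod * C * (L'.map TransvectionStruct.toMatrix).prod = _
  rw [mul_assoc (diagonal d), mul_assoc (diagonal d), hD, diagonal_mul_diagonal, indMat, diagonal_neg]
  refine congrArg diagonal (funext fun i => ?_)
  by_cases hi : D i = 0 <;> simp [hd, hi]

/-- Every element lies in a double coset of a partial Weyl element. -/
theorem exists_cell (g : Matrix.symplecticGroup (Fin n) F) :
    ∃ (p : Matrix.symplecticGroup (Fin n) F) (J : Finset (Fin n)) (p' : Matrix.symplecticGroup (Fin n) F),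
      InP p ∧ InP p' ∧ g = p * sigmaJ F J * p' := by
  obtain ⟨M, N, J, hMN⟩ := exists_normalForm g.1.toBlocks₂₁
  let Mt : GL (Fin n) F := ⟨M⁻¹.valᵀ, M.valᵀ, by rw [← transpose_mul, M.mul_inv, transpose_one],
    by rw [← transpose_mul, M.inv_mul, transpose_one]⟩
  set I := indMat F J with hI
  set E := 1 - indMat F J with hE
  set g1 := siegelM Mt * g * siegelM N with hg1
  have h1 : g1.1.toBlocks₂₁ = -I := by
    have : g1.1 = fromBlocks Mt.val 0 0 Mt⁻¹.valᵀ * g.1 * fromBlocks N.val 0 0 N⁻¹.valᵀ := rfl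
    rw [this, ← fromBlocks_toBlocks g.1, fromBlocks_multiply, fromBlocks_multiply, toBlocks_fromBlocks₂₁, ← hMN]
    simp [Mt, -Matrix.coe_units_inv]
  set A := g1.1.toBlocks₁₁ with hA
  have hsym : I * A = Aᵀ * I := by
    have := (sympl_rel g1).1
    rw [h1, transpose_neg, indMat_transpose, neg_mul, mul_neg, neg_inj] at this
    exact this
  have hIE : I * E = 0 := indMat_mul_compl J
  have hEI : E * I = 0 := compl_mul_indMat J
  have hII : I * I = I := indMat_sq J
  have hEE : E * E = E := compl_sq J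
  have hsum : I + E = 1 := by rw [hI, hE]; abel
  have hIt : Iᵀ = I := indMat_transpose J
  have hEt : Eᵀ = E := by rw [hE, transpose_sub, transpose_one, indMat_transpose]
  let S : symMat F n := ⟨A * I + (E * A * I)ᵀ, by
    have hblock : (I * A * I)ᵀ = I * A * I := by
      rw [transpose_mul, transpose_mul, hIt, ← hsym, ← mul_assoc, hII, hsym, mul_assoc, hII]
    have e : A * I = I * A * I + E * A * I := by rw [← add_mul, ← add_mul, hsum, one_mul]
    rw [mem_symMat, e, transpose_add, transpose_add, transpose_transpose, hblock]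
    abel⟩
  set g2 := siegelU S * g1 with hg2
  have hAE : A + S.1 * -I = A * E := by
    show A + (A * I + (E * A * I)ᵀ) * -I = A * E
    rw [mul_neg, add_mul, mul_assoc A I I, hII, transpose_mul, transpose_mul, hEt, hIt, mul_assoc I (Aᵀ * E) I,
      mul_assoc Aᵀ E I, hEI, mul_zero, mul_zero, add_zero, hE, mul_sub, mul_one]
    exact (sub_eq_add_neg _ _).symm
  have hIAE : I * (A * E) = 0 := by rw [← mul_assoc, hsym, mul_assoc, hIE, mul_zero]
  have hg2col : g2.1.toBlocks₁₁ = A * E ∧ g2.1.toBlocks₂₁ = -I := by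
    have : g2.1 = fromBlocks 1 S.1 0 1 * g1.1 := rfl
    rw [this, ← fromBlocks_toBlocks g1.1, fromBlocks_multiply, toBlocks_fromBlocks₁₁, toBlocks_fromBlocks₂₁, h1,
      one_mul, zero_mul, zero_add, one_mul, hAE]
    exact ⟨rfl, rfl⟩
  set A2 := A * E + I with hA2
  have hA2u : IsUnit A2 := by
    rw [← Matrix.mulVec_injective_iff_isUnit]
    intro v w hvw
    rw [← sub_eq_zero]
    have h0 : A2 *ᵥ (v - w) = 0 := by rw [mulVec_sub, hvw, sub_self]
    set z := v - w
    have hIz : I *ᵥ z = 0 := by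
      have := congrArg (fun y => I *ᵥ y) h0
      simp only [mulVec_mulVec, mulVec_zero, hA2, mul_add, hIAE, hII, zero_add] at this
      exact this
    have hAEz : (A * E) *ᵥ z = 0 := by
      have := h0
      rwa [hA2, add_mulVec, hIz, add_zero] at this
    have hg : g2.1 *ᵥ Sum.elim z 0 = 0 := by
      rw [← fromBlocks_toBlocks g2.1, fromBlocks_mulVec, hg2col.1, hg2col.2]
      simp [hAEz, hIz, neg_mulVec]
    have hinj : Function.Injective fun y => g2.1 *ᵥ y :=
      Matrix.mulVec_injective_iff_isUnit.2 ((Matrix.isUnit_iff_isUnit_det _).2 (SymplecticGroup.symplectic_det g2.2))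
    have := hinj (hg.trans (mulVec_zero _).symm)
    funext i
    exact congrFun this (Sum.inl i)
  set A2' := hA2u.unit with hA2'
  have hA2val : A2'.val = A2 := IsUnit.unit_spec _
  have hI2 : I * A2'⁻¹.val = I := by
    calc I * A2'⁻¹.val = I * A2 * A2'⁻¹.val := by rw [hA2, mul_add, hIAE, hII, zero_add]
      _ = I := by rw [mul_assoc, ← hA2val, A2'.mul_inv, mul_one]
  have hE2 : A * E * A2'⁻¹.val = E := by
    calc A * E * A2'⁻¹.val = E * A2 * A2'⁻¹.val := by
          rw [hA2, mul_add, hEI, add_zero]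
          congr 1
          conv_lhs => rw [← one_mul (A * E), ← hsum, add_mul, hIAE, zero_add]
      _ = E := by rw [mul_assoc, ← hA2val, A2'.mul_inv, mul_one]
  set g3 := g2 * siegelM A2'⁻¹ with hg3
  have hg3col : g3.1.toBlocks₁₁ = E ∧ g3.1.toBlocks₂₁ = -I := by
    have : g3.1 = g2.1 * fromBlocks A2'⁻¹.val 0 0 (A2'⁻¹)⁻¹.valᵀ := rfl
    rw [this, ← fromBlocks_toBlocks g2.1, fromBlocks_multiply, toBlocks_fromBlocks₁₁, toBlocks_fromBlocks₂₁, hg2col.1,
      hg2col.2, mul_zero, add_zero, mul_zero, add_zero, hE2, neg_mul, hI2]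
    exact ⟨rfl, rfl⟩
  have hrest : InP ((sigmaJ F J)⁻¹ * g3) := by
    have hinv : ((sigmaJ F J)⁻¹).1 = fromBlocks E (-I) I E := by
      have hm : (⟨fromBlocks E (-I) I E, by
          have : fromBlocks E (-I) I E = (sigmaJ F J).1ᵀ := by
            rw [sigmaJ_val, fromBlocks_transpose, transpose_neg, ← hI, ← hE, hIt, hEt]
          rw [this]
          exact SymplecticGroup.transpose_mem (sigmaJ F J).2⟩ : Matrix.symplecticGroup (Fin n) F) * sigmaJ F J = 1 := by
        refine Subtype.ext ?_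
        show fromBlocks E (-I) I E * (sigmaJ F J).1 = 1
        rw [sigmaJ_val, ← hI, ← hE, fromBlocks_multiply]
        simp [hII, hEE, hIE, hEI, ← fromBlocks_one, hsum, add_comm E I]
      rw [← eq_inv_of_mul_eq_one_left hm]
    show (((sigmaJ F J)⁻¹).1 * g3.1).toBlocks₂₁ = 0
    rw [hinv, ← fromBlocks_toBlocks g3.1, fromBlocks_multiply, toBlocks_fromBlocks₂₁, hg3col.1, hg3col.2, hIE, mul_neg,
      hEI, neg_zero, add_zero]
  have hmul : ∀ {x y : Matrix.symplecticGroup (Fin n) F}, InP x → InP y → InP (x * y) := fun {x y} hx hy => by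
    show (x.1 * y.1).toBlocks₂₁ = 0
    rw [← fromBlocks_toBlocks x.1, ← fromBlocks_toBlocks y.1, fromBlocks_multiply, toBlocks_fromBlocks₂₁,
      show x.1.toBlocks₂₁ = 0 from hx, show y.1.toBlocks₂₁ = 0 from hy, zero_mul, mul_zero, add_zero]
  refine ⟨siegelM Mt⁻¹ * siegelU (-S), J, (sigmaJ F J)⁻¹ * g3 * siegelM (A2' * N⁻¹),
    hmul (inP_siegelM _) (inP_siegelU _), hmul hrest (inP_siegelM _), ?_⟩
  have hu : siegelU (-S) * siegelU S = 1 := by rw [← siegelU_add, neg_add_cancel, siegelU_zero]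
  calc g = siegelM Mt⁻¹ * g1 * siegelM N⁻¹ := by
        rw [hg1, siegelM_inv, siegelM_inv, mul_assoc (siegelM Mt) g, inv_mul_cancel_left, mul_inv_cancel_right]
    _ = _ := by
        rw [hg3, hg2, siegelM_mul, siegelM_inv A2']
        have e : g1 = siegelU (-S) * (siegelU S * g1) := by rw [← mul_assoc, hu, one_mul]
        conv_lhs => rw [e]
        group

end Cfsg.Agent.Lib.SpWeil
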