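import Mathlib
import Cfsg.Agent.Lib.MinDegree.Siegel
import Cfsg.Agent.Lib.MinDegree.WeilOp
import Cfsg.Agent.Lib.SpWeil.Cell

/-!
Rank-one characters of the Siegel radical of `Sp_{2n}(F)` and their eigenspaces.
-/

open Classical

set_option autoImplicit false
set_option linter.unusedSectionVars false

namespace Cfsg.Agent.Lib.SpWeil

open Matrix Cfsg.Agent.Lib.MinDegree

section Proj

variable {A : Type*} [AddCommGroup A] [Fintype A] {U : Type*} [AddCommGroup U] [Module ℂ U]
  {z : A → Module.End ℂ U}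

theorem eigProj_smul (hadd : ∀ a b, z (a + b) = z a * z b) (χ : AddChar A ℂ) (a : A) (u : U) :
    eigProj z χ (z a u) = χ a • eigProj z χ u := by
  have hc : ∀ b, z b (z a u) = z a (z b u) := fun b => by
    rw [← Module.End.mul_apply, ← Module.End.mul_apply, ← hadd, ← hadd, add_comm]
  rw [← eigProj_mem hadd χ u a]
  simp only [eigProj, LinearMap.smul_apply, LinearMap.sum_apply, map_smul, map_sum, hc]

theorem eigProj_of_ne {χ ψ : AddChar A ℂ} (hne : χ ≠ ψ) {u : U} (hu : u ∈ eigSpace z ψ) : eigProj z χ u = 0 := by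
  simp only [eigProj, LinearMap.smul_apply, LinearMap.sum_apply]
  have e : ∀ a, χ (-a) • z a u = (χ (-a) * ψ a) • u := fun a => by rw [hu a, smul_smul]
  rw [Finset.sum_congr rfl fun a _ => e a, ← Finset.sum_smul]
  have hs : ∑ a, χ (-a) * ψ a = 0 := by
    have h := AddChar.sum_eq_ite (χ⁻¹ * ψ)
    have e' : ∀ a, χ (-a) * ψ a = (χ⁻¹ * ψ) a := fun a => by rw [AddChar.mul_apply, AddChar.inv_apply]
    rw [Finset.sum_congr rfl fun a _ => e' a, h, if_neg]
    intro h0
    refine hne ?_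
    have : χ⁻¹ * ψ = 1 := by rw [AddChar.one_eq_zero]; simpa using h0
    exact inv_mul_eq_one.1 this
  rw [hs, zero_smul, smul_zero]

theorem eigProj_eq_zero_of_bot (hadd : ∀ a b, z (a + b) = z a * z b) {χ : AddChar A ℂ}
    (h : eigSpace z χ = ⊥) (u : U) : eigProj z χ u = 0 := by
  have := eigProj_mem hadd χ u
  rwa [h, Submodule.mem_bot] at this

theorem eq_sum_eigProj (h0 : z 0 = 1) (u : U) : u = ∑ χ : AddChar A ℂ, eigProj z χ u := by
  rw [← LinearMap.sum_apply, sum_eigProj h0, Module.End.one_apply]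

end Proj

variable {F : Type*} [Field F] [Fintype F] {n : ℕ}

omit [Fintype F] in
/-- The value of a rank-one functional. -/
def qform (c : F) (x : Fin n → F) : symMat F n →+ F :=
  AddMonoidHom.mk' (fun S => c * (x ⬝ᵥ (S.1 *ᵥ x))) fun S T => by
    simp [add_mulVec, dotProduct_add, mul_add]

/-- A rank-one character of the symmetric matrices. -/
noncomputable def qchar (c : F) (x : Fin n → F) : AddChar (symMat F n) ℂ := (psi0 F).compAddMonoidHom (qform c x)

theorem qchar_apply (c : F) (x : Fin n → F) (S : symMat F n) :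
    qchar c x S = psi0 F (c * (x ⬝ᵥ (S.1 *ᵥ x))) := rfl

omit [Fintype F] in
theorem qform_sq (c : F) (x v : Fin n → F) (t : F) :
    c * (x ⬝ᵥ ((t • sqVec v : symMat F n).1 *ᵥ x)) = t * (c * (v ⬝ᵥ x) ^ 2) := by
  simp only [Submodule.coe_smul, sqVec, smul_mulVec, dotProduct_smul, vecMulVec_mulVec, op_smul_eq_smul, smul_eq_mul]
  rw [dotProduct_comm x v]
  ring

omit [Fintype F] in
theorem qform_cross (c : F) (x u v : Fin n → F) (t : F) :
    c * (x ⬝ᵥ ((t • crossVec u v : symMat F n).1 *ᵥ x)) = t * (2 * (c * ((u ⬝ᵥ x) * (v ⬝ᵥ x)))) := by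
  simp only [Submodule.coe_smul, crossVec, smul_mulVec, dotProduct_smul, vecMulVec_mulVec, op_smul_eq_smul, smul_eq_mul,
    add_mulVec, dotProduct_add]
  rw [dotProduct_comm x v, dotProduct_comm x u]
  ring

theorem eq_of_psi0 {a b : F} (h : ∀ t, psi0 F (t * a) = psi0 F (t * b)) : a = b := by
  by_contra hne
  obtain ⟨t, ht⟩ := exists_psi0_ne_one (sub_ne_zero.2 hne)
  refine ht ?_
  rw [mul_sub, sub_eq_add_neg, AddChar.map_add_eq_mul, h t, ← AddChar.map_add_eq_mul, add_neg_cancel,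
    AddChar.map_zero_eq_one]

theorem qchar_eq_sq {c c' : F} {x x' : Fin n → F} (h : qchar c x = qchar c' x') (v : Fin n → F) :
    c * (v ⬝ᵥ x) ^ 2 = c' * (v ⬝ᵥ x') ^ 2 :=
  eq_of_psi0 fun t => by
    have := DFunLike.congr_fun h (t • sqVec v)
    rwa [qchar_apply, qchar_apply, qform_sq, qform_sq] at this

theorem qchar_eq_of_prod {c c' : F} {x x' : Fin n → F} (h : ∀ i j, c * (x i * x j) = c' * (x' i * x' j)) :
    qchar c x = qchar c' x' := by
  refine DFunLike.ext _ _ fun S => ?_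
  rw [qchar_apply, qchar_apply]
  congr 1
  simp only [dotProduct, mulVec, Finset.mul_sum]
  refine Finset.sum_congr rfl fun i _ => Finset.sum_congr rfl fun j _ => ?_
  linear_combination S.1 i j * h i j

theorem qchar_ne_zero {c : F} {x : Fin n → F} (hc : c ≠ 0) (hx : x ≠ 0) : qchar c x ≠ 0 := by
  intro h
  obtain ⟨i, hi⟩ := Function.ne_iff.1 hx
  have h0 : qchar c x = qchar 0 x := by
    rw [h]; exact DFunLike.ext _ _ fun S => by simp [qchar_apply, AddChar.map_zero_eq_one]
  have := qchar_eq_sq h0 (Pi.single i 1)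
  rw [single_dotProduct, one_mul, zero_mul] at this
  exact mul_ne_zero hc (pow_ne_zero 2 hi) this

omit [Fintype F] in
theorem qform_congMat (c : F) (M : Matrix (Fin n) (Fin n) F) (x : Fin n → F) (S : symMat F n) :
    c * (x ⬝ᵥ ((congMat M S).1 *ᵥ x)) = c * ((Mᵀ *ᵥ x) ⬝ᵥ (S.1 *ᵥ (Mᵀ *ᵥ x))) := by
  show c * (x ⬝ᵥ ((M * S.1 * Mᵀ) *ᵥ x)) = _
  rw [← mulVec_mulVec, ← mulVec_mulVec, dotProduct_mulVec, ← mulVec_transpose]

section Rep

variable {V : Type*} [AddCommGroup V] [Module ℂ V] (ρ : Representation ℂ (Matrix.symplecticGroup (Fin n) F) V)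

omit [Fintype F] in
theorem rep_mul (g h : Matrix.symplecticGroup (Fin n) F) (v : V) : ρ (g * h) v = ρ g (ρ h v) := by
  rw [map_mul]; rfl

theorem siegelZ_zero : siegelZ ρ (0 : symMat F n) = 1 := by rw [siegelZ, siegelU_zero, map_one]

theorem siegelZ_add (a b : symMat F n) : siegelZ ρ (a + b) = siegelZ ρ a * siegelZ ρ b := by
  rw [siegelZ, siegelU_add, map_mul]

/-- The eigenspace of a rank-one character. -/
noncomputable def qSpace (c : F) (x : Fin n → F) : Submodule ℂ V := eigSpace (siegelZ ρ) (qchar c x)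

/-- Only rank-one characters occur. -/
def IsLow : Prop := ∀ φ : AddChar (symMat F n) ℂ, eigSpace (siegelZ ρ) φ ≠ ⊥ → ∃ c x, φ = qchar c x

theorem mem_qSpace {c : F} {x : Fin n → F} {v : V} :
    v ∈ qSpace ρ c x ↔ ∀ S, ρ (siegelU S) v = qchar c x S • v := Iff.rfl

theorem siegelM_mem {c : F} {x : Fin n → F} {v : V} (hv : v ∈ qSpace ρ c x) (A : GL (Fin n) F) :
    ρ (siegelM A) v ∈ qSpace ρ c (A⁻¹.valᵀ *ᵥ x) := fun S => by
  show ρ (siegelU S) (ρ (siegelM A) v) = _
  have e : siegelU S * siegelM A = siegelM A * siegelU (congMat A⁻¹.val S) := by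
    rw [siegelM_mul_U]
    congr 2
    refine Subtype.ext ?_
    show S.1 = A.val * (A⁻¹.val * S.1 * A⁻¹.valᵀ) * A.valᵀ
    rw [← mul_assoc, ← mul_assoc, A.mul_inv, one_mul, mul_assoc, ← transpose_mul, A.mul_inv, transpose_one, mul_one]
  rw [← rep_mul, e, rep_mul, (mem_qSpace ρ).1 hv, map_smul, qchar_apply, qform_congMat, qchar_apply]

variable [Fintype (symMat F n)]

theorem proj_siegelM (φ : AddChar (symMat F n) ℂ) (A : GL (Fin n) F) (w : V) :
    eigProj (siegelZ ρ) φ (ρ (siegelM A) w) =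
      ρ (siegelM A) (eigProj (siegelZ ρ) (φ.compAddMonoidHom (congMat A.val).toAddMonoidHom) w) := by
  simp only [eigProj, LinearMap.smul_apply, LinearMap.sum_apply, map_smul, map_sum]
  congr 1
  have hinv : ∀ S, congMat A.val (congMat A⁻¹.val S) = S := fun S => Subtype.ext (by
    show A.val * (A⁻¹.val * S.1 * A⁻¹.valᵀ) * A.valᵀ = S.1
    rw [← mul_assoc, ← mul_assoc, A.mul_inv, one_mul, mul_assoc, ← transpose_mul, A.mul_inv, transpose_one, mul_one])
  have hinj : Function.Surjective (congMat A.val) := fun S => ⟨_, hinv S⟩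
  symm
  refine Fintype.sum_bijective (congMat A.val)
    ((Finite.surjective_iff_bijective).1 hinj) _ _ fun S => ?_
  show (φ.compAddMonoidHom (congMat A.val).toAddMonoidHom) (-S) • ρ (siegelM A) (ρ (siegelU S) w) =
    φ (-congMat A.val S) • ρ (siegelU (congMat A.val S)) (ρ (siegelM A) w)
  rw [← rep_mul, siegelM_mul_U, rep_mul, ← map_neg (congMat A.val)]
  rfl

theorem exists_qchar {φ : AddChar (symMat F n) ℂ} (hlow : IsLow ρ) {w : V}
    (h : eigProj (siegelZ ρ) φ w ≠ 0) : ∃ c x, φ = qchar c x :=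
  hlow φ fun hb => h (eigProj_eq_zero_of_bot (siegelZ_add ρ) hb w)

theorem mem_fixed_of_proj {w : V} (h : ∀ φ, φ ≠ 0 → eigProj (siegelZ ρ) φ w = 0) (S : symMat F n) :
    ρ (siegelU S) w = w := by
  have e := eq_sum_eigProj (siegelZ_zero ρ) w
  rw [Finset.sum_eq_single (0 : AddChar (symMat F n) ℂ) (fun φ _ hφ => h φ hφ)
    (fun h' => absurd (Finset.mem_univ _) h')] at e
  have hm := eigProj_mem (siegelZ_add ρ) (0 : AddChar (symMat F n) ℂ) w S
  rw [← e, AddChar.zero_apply, one_smul] at hm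
  exact hm

end Rep

/-- The coordinate vector of the first Lagrangian. -/
noncomputable def eA (a : Fin n) : PVec F n := Pi.single (Sum.inl a) 1

/-- The root element of a coordinate. -/
noncomputable def eltZ (a : Fin n) (t : F) : Matrix.symplecticGroup (Fin n) F := siegelU (t • sqVec (Pi.single a 1))

omit [Fintype F] in
theorem eltZ_mulVec (a : Fin n) (t : F) (v : PVec F n) :
    (eltZ a t).1 *ᵥ v = v + (t * v (Sum.inr a)) • eA a := by
  show fromBlocks 1 (t • sqVec (Pi.single a (1 : F)) : symMat F n).1 0 1 *ᵥ v = _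
  rw [fromBlocks_mulVec]
  funext i
  rcases i with i | i
  · simp [sqVec, eA, vecMulVec_mulVec, smul_mulVec, Pi.single_apply, op_smul_eq_smul]
  · simp [eA]

omit [Fintype F] in
theorem inr_eq_of_fixes {a : Fin n} {g : Matrix.symplecticGroup (Fin n) F} (hg : g.1 *ᵥ eA a = eA a) (v : PVec F n) :
    (g.1 *ᵥ v) (Sum.inr a) = v (Sum.inr a) := by
  have h := omW_mulVec g (eA a) v
  rw [hg] at h
  have e : ∀ w : PVec F n, omW (eA a) w = -w (Sum.inr a) := fun w => by
    simp [omW, eA, dotProduct, Function.comp, Pi.single_apply]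
  rw [e, e, neg_inj] at h
  exact h

omit [Fintype F] in
theorem eltZ_comm {a : Fin n} {g : Matrix.symplecticGroup (Fin n) F} (hg : g.1 *ᵥ eA a = eA a) (t : F) :
    g * eltZ a t = eltZ a t * g := by
  refine Subtype.ext (Matrix.ext_of_mulVec_single fun i => ?_)
  show (g.1 * (eltZ a t).1) *ᵥ _ = ((eltZ a t).1 * g.1) *ᵥ _
  rw [← mulVec_mulVec, ← mulVec_mulVec, eltZ_mulVec, eltZ_mulVec, mulVec_add, mulVec_smul, hg, inr_eq_of_fixes hg]

/-- The character of a coordinate root group. -/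
noncomputable def zchar (γ : F) : AddChar F ℂ := (psi0 F).compAddMonoidHom (AddMonoidHom.mulRight γ)

theorem zchar_apply (γ t : F) : zchar γ t = psi0 F (t * γ) := rfl

theorem zchar_injective {γ γ' : F} (h : zchar γ = zchar γ') : γ = γ' :=
  eq_of_psi0 fun t => DFunLike.congr_fun h t

section RepZ

variable {V : Type*} [AddCommGroup V] [Module ℂ V] (ρ : Representation ℂ (Matrix.symplecticGroup (Fin n) F) V)

/-- The coordinate root group in the representation. -/
noncomputable abbrev zFam (a : Fin n) (t : F) : Module.End ℂ V := ρ (eltZ a t)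

theorem zFam_add (a : Fin n) (s t : F) : zFam ρ a (s + t) = zFam ρ a s * zFam ρ a t := by
  rw [zFam, eltZ, add_smul, siegelU_add, map_mul]; rfl

theorem zFam_zero (a : Fin n) : zFam ρ a 0 = 1 := by
  rw [zFam, eltZ, zero_smul, siegelU_zero, map_one]

theorem qchar_sq_single (c : F) (x : Fin n → F) (a : Fin n) (t : F) :
    qchar c x (t • sqVec (Pi.single a 1)) = zchar (c * x a ^ 2) t := by
  rw [qchar_apply, qform_sq, single_dotProduct, one_mul, zchar_apply]

theorem qSpace_le_z {c : F} {x : Fin n → F} {v : V} (hv : v ∈ qSpace ρ c x) (a : Fin n) :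
    v ∈ eigSpace (zFam ρ a) (zchar (c * x a ^ 2)) := fun t => by
  rw [← qchar_sq_single]
  exact hv _

theorem mem_z_of_comm {a : Fin n} {g : Matrix.symplecticGroup (Fin n) F} (hg : g.1 *ᵥ eA a = eA a)
    {φ : AddChar F ℂ} {v : V} (hv : v ∈ eigSpace (zFam ρ a) φ) : ρ g v ∈ eigSpace (zFam ρ a) φ := fun t => by
  show ρ (eltZ a t) (ρ g v) = _
  rw [← rep_mul, ← eltZ_comm hg, rep_mul]
  show ρ g (zFam ρ a t v) = _
  rw [hv t, map_smul]

theorem zProj_comm {a : Fin n} {g : Matrix.symplecticGroup (Fin n) F} (hg : g.1 *ᵥ eA a = eA a)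
    (φ : AddChar F ℂ) (v : V) : eigProj (zFam ρ a) φ (ρ g v) = ρ g (eigProj (zFam ρ a) φ v) := by
  simp only [eigProj, LinearMap.smul_apply, LinearMap.sum_apply, map_smul, map_sum]
  congr 1
  refine Finset.sum_congr rfl fun t _ => ?_
  show φ (-t) • ρ (eltZ a t) (ρ g v) = φ (-t) • ρ g (ρ (eltZ a t) v)
  rw [← rep_mul, ← eltZ_comm hg, rep_mul]

theorem proj_zProj [Fintype (symMat F n)] {c : F} {x : Fin n → F} {a : Fin n} {γ : F}
    (h : c * x a ^ 2 = γ) (w : V) :
    eigProj (siegelZ ρ) (qchar c x) (eigProj (zFam ρ a) (zchar γ) w) = eigProj (siegelZ ρ) (qchar c x) w := by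
  conv_lhs => arg 2; rw [eigProj, LinearMap.smul_apply, LinearMap.sum_apply]
  rw [map_smul, map_sum]
  have e : ∀ t, eigProj (siegelZ ρ) (qchar c x) ((zchar γ (-t) • zFam ρ a t) w) = eigProj (siegelZ ρ) (qchar c x) w :=
    fun t => by
      rw [LinearMap.smul_apply, map_smul]
      show zchar γ (-t) • eigProj (siegelZ ρ) (qchar c x) (siegelZ ρ (t • sqVec (Pi.single a 1)) w) = _
      rw [eigProj_smul (siegelZ_add ρ), qchar_sq_single, h, smul_smul, ← AddChar.map_add_eq_mul, neg_add_cancel,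
        AddChar.map_zero_eq_one, one_smul]
  rw [Finset.sum_congr rfl fun t _ => e t, Finset.sum_const, Finset.card_univ, ← Nat.cast_smul_eq_nsmul ℂ, smul_smul,
    inv_mul_cancel₀ (Nat.cast_ne_zero.2 Fintype.card_ne_zero), one_smul]

end RepZ

end Cfsg.Agent.Lib.SpWeil
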