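import Mathlib
import Cfsg.Agent.Lib.SpWeil.Spectral

/-!
Maps commuting with the unipotent radical of a point stabiliser commute with its Levi factor,
on the eigenspaces of the root group of the point.
-/

open Classical

set_option autoImplicit false
set_option linter.unusedSectionVars false

namespace Cfsg.Agent.Lib.SpWeil

open Matrix Cfsg.Agent.Lib.MinDegree

variable {F : Type*} [Field F] [Fintype F] {n : ℕ}

/-- The unipotent radical of the stabiliser of the vector. -/
def InQ (a : Fin n) (g : Matrix.symplecticGroup (Fin n) F) : Prop :=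
  g.1 *ᵥ eA a = eA a ∧ ∀ v : PVec F n, v (Sum.inr a) = 0 → ∃ t : F, g.1 *ᵥ v = v + t • eA a

theorem fixes_mul {a : Fin n} {g h : Matrix.symplecticGroup (Fin n) F} (hg : g.1 *ᵥ eA a = eA a)
    (hh : h.1 *ᵥ eA a = eA a) : (g * h).1 *ᵥ eA a = eA a := by
  show (g.1 * h.1) *ᵥ _ = _
  rw [← mulVec_mulVec, hh, hg]

theorem fixes_inv {a : Fin n} {g : Matrix.symplecticGroup (Fin n) F} (hg : g.1 *ᵥ eA a = eA a) :
    (g⁻¹).1 *ᵥ eA a = eA a := by
  conv_lhs => rw [← hg]
  rw [mulVec_mulVec]
  show (g⁻¹ * g).1 *ᵥ _ = _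
  rw [inv_mul_cancel]
  exact one_mulVec _

theorem inQ_conj {a : Fin n} {g k : Matrix.symplecticGroup (Fin n) F} (hg : InQ a g) (hk : k.1 *ᵥ eA a = eA a) :
    InQ a (k * g * k⁻¹) := by
  refine ⟨fixes_mul (fixes_mul hk hg.1) (fixes_inv hk), fun v hv => ?_⟩
  obtain ⟨t, ht⟩ := hg.2 ((k⁻¹).1 *ᵥ v) (by rw [inr_eq_of_fixes (fixes_inv hk), hv])
  refine ⟨t, ?_⟩
  show (k.1 * g.1 * (k⁻¹).1) *ᵥ v = _
  rw [← mulVec_mulVec, ← mulVec_mulVec, ht, mulVec_add, mulVec_smul, hk, mulVec_mulVec]
  show (k * k⁻¹).1 *ᵥ v + _ = _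
  rw [mul_inv_cancel]
  exact congrArg (· + t • eA a) (one_mulVec v)

theorem siegelU_fixes (S : symMat F n) (a : Fin n) : (siegelU S).1 *ᵥ eA a = eA a := by
  show fromBlocks 1 S.1 0 1 *ᵥ eA a = eA a
  rw [fromBlocks_mulVec]
  funext i
  rcases i with i | i <;> simp [eA, dotProduct, mulVec, Pi.single_apply, Matrix.one_apply]

theorem siegelM_fixes {A : GL (Fin n) F} {a : Fin n}
    (h : A.val *ᵥ Pi.single a 1 = (Pi.single a 1 : Fin n → F)) : (siegelM A).1 *ᵥ eA a = eA a := by
  show fromBlocks A.val 0 0 A⁻¹.valᵀ *ᵥ eA a = eA a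
  rw [fromBlocks_mulVec]
  have e : eA (F := F) a ∘ Sum.inl = Pi.single a 1 := by funext i; simp [eA, Pi.single_apply]
  have e' : eA (F := F) a ∘ Sum.inr = 0 := by funext i; simp [eA]
  rw [e, e', h, mulVec_zero, mulVec_zero, zero_mulVec, add_zero, add_zero]
  funext i
  rcases i with i | i <;> simp [eA, Pi.single_apply]

theorem sigmaJ_fixes {a : Fin n} {J : Finset (Fin n)} (ha : a ∉ J) : (sigmaJ F J).1 *ᵥ eA a = eA a := by
  rw [sigmaJ_val, fromBlocks_mulVec]
  have e : eA (F := F) a ∘ Sum.inl = Pi.single a 1 := by funext i; simp [eA, Pi.single_apply]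
  have e' : eA (F := F) a ∘ Sum.inr = 0 := by funext i; simp [eA]
  rw [e, e', mulVec_zero, mulVec_zero, add_zero, add_zero]
  have hI : indMat F J *ᵥ Pi.single a 1 = 0 := by
    funext i
    rw [indMat, mulVec_diagonal]
    by_cases h : i = a
    · subst h; simp [ha]
    · simp [h]
  rw [sub_mulVec, one_mulVec, neg_mulVec, hI, sub_zero, neg_zero]
  funext i
  rcases i with i | i <;> simp [eA, Pi.single_apply]

theorem inQ_siegelU_col {a : Fin n} (S : symMat F n) (h : ∀ i j, i ≠ a → j ≠ a → S.1 i j = 0) :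
    InQ a (siegelU S) := by
  refine ⟨siegelU_fixes S a, fun v hv => ⟨(S.1 *ᵥ (v ∘ Sum.inr)) a, ?_⟩⟩
  show fromBlocks 1 S.1 0 1 *ᵥ v = _
  rw [fromBlocks_mulVec]
  funext i
  rcases i with i | i
  · simp only [one_mulVec, Sum.elim_inl, Pi.add_apply, Pi.smul_apply, smul_eq_mul, Function.comp_apply]
    by_cases hi : i = a
    · subst hi; simp [eA]
    · have : (S.1 *ᵥ (v ∘ Sum.inr)) i = 0 := by
        show ∑ j, S.1 i j * v (Sum.inr j) = 0
        refine Finset.sum_eq_zero fun j _ => ?_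
        by_cases hj : j = a
        · subst hj; simp [hv]
        · simp [h i j hi hj]
      simp [this, eA, hi]
  · simp [eA]

theorem inP_of_inQ {a : Fin n} {g : Matrix.symplecticGroup (Fin n) F} (hg : InQ a g) : InP g := by
  refine Matrix.ext fun i j => ?_
  obtain ⟨t, ht⟩ := hg.2 (Pi.single (Sum.inl j) 1) (by simp)
  have := congrFun ht (Sum.inr i)
  simpa [eA, toBlocks₂₁] using this

/-- A matrix on the other coordinates, extended by one. -/
noncomputable def extMat (a : Fin n) (M : Matrix {i : Fin n // i ≠ a} {i : Fin n // i ≠ a} F) :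
    Matrix (Fin n) (Fin n) F :=
  Matrix.of fun i j => if hi : i = a then (if j = a then 1 else 0) else if hj : j = a then 0 else M ⟨i, hi⟩ ⟨j, hj⟩

theorem extMat_mul (a : Fin n) (M N : Matrix {i : Fin n // i ≠ a} {i : Fin n // i ≠ a} F) :
    extMat a (M * N) = extMat a M * extMat a N := by
  refine Matrix.ext fun i j => ?_
  rw [Matrix.mul_apply, ← Finset.sum_erase_add Finset.univ _ (Finset.mem_univ a)]
  rw [Finset.sum_subtype (p := fun k : Fin n => k ≠ a) (Finset.univ.erase a) (F := inferInstance) (fun k => by simp)]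
  by_cases hi : i = a
  · subst hi
    simp [extMat, Matrix.of_apply, fun k : {k : Fin n // k ≠ i} => k.2]
  · by_cases hj : j = a
    · subst hj
      simp [extMat, Matrix.of_apply, hi, fun k : {k : Fin n // k ≠ j} => k.2]
    · simp [extMat, Matrix.of_apply, hi, hj, Matrix.mul_apply, fun k : {k : Fin n // k ≠ a} => k.2]

theorem extMat_one (a : Fin n) : extMat a (1 : Matrix {i : Fin n // i ≠ a} {i : Fin n // i ≠ a} F) = 1 := by
  refine Matrix.ext fun i j => ?_
  by_cases hi : i = a
  · subst hi; by_cases hj : j = i <;> simp [extMat, hj, Matrix.one_apply, eq_comm]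
  · by_cases hj : j = a
    · subst hj; simp [extMat, hi, Matrix.one_apply]
    · simp [extMat, hi, hj, Matrix.one_apply]

section Maps

variable {V : Type*} [AddCommGroup V] [Module ℂ V] {W : Type*} [AddCommGroup W] [Module ℂ W]
  (ρ : Representation ℂ (Matrix.symplecticGroup (Fin n) F) V)
  (ρ' : Representation ℂ (Matrix.symplecticGroup (Fin n) F) W)

/-- Maps commuting with the radical and supported at one value of the root group. -/
def IsY (a : Fin n) (γ : F) (Y : V →ₗ[ℂ] W) : Prop :=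
  (∀ g, InQ a g → ∀ v, ρ' g (Y v) = Y (ρ g v)) ∧
    ∀ γ', γ' ≠ γ → ∀ v ∈ eigSpace (zFam ρ a) (zchar γ'), Y v = 0

/-- Elements commuting with all these maps. -/
def FixY (a : Fin n) (γ : F) (g : Matrix.symplecticGroup (Fin n) F) : Prop :=
  ∀ Y, IsY ρ ρ' a γ Y → ∀ v, ρ' g (Y v) = Y (ρ g v)

variable {ρ ρ'} {a : Fin n} {γ : F}

theorem FixY.mul {g h : Matrix.symplecticGroup (Fin n) F} (hg : FixY ρ ρ' a γ g) (hh : FixY ρ ρ' a γ h) :
    FixY ρ ρ' a γ (g * h) := fun Y hY v => by
  rw [rep_mul, rep_mul, hh Y hY, hg Y hY]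

theorem FixY.inv {g : Matrix.symplecticGroup (Fin n) F} (hg : FixY ρ ρ' a γ g) : FixY ρ ρ' a γ g⁻¹ :=
  fun Y hY v => by
  have h := hg Y hY (ρ g⁻¹ v)
  rw [← rep_mul ρ, mul_inv_cancel, map_one, Module.End.one_apply] at h
  rw [← h, ← rep_mul, inv_mul_cancel, map_one, Module.End.one_apply]

theorem FixY.conj {g k : Matrix.symplecticGroup (Fin n) F} (hg : FixY ρ ρ' a γ g) (hk : k.1 *ᵥ eA a = eA a) :
    FixY ρ ρ' a γ (k * g * k⁻¹) := fun Y hY v => by
  let Y' : V →ₗ[ℂ] W := ρ' k⁻¹ ∘ₗ Y ∘ₗ ρ k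
  have hY' : IsY ρ ρ' a γ Y' := by
    refine ⟨fun q hq w => ?_, fun γ' hγ w hw => ?_⟩
    · show ρ' q (ρ' k⁻¹ (Y (ρ k w))) = ρ' k⁻¹ (Y (ρ k (ρ q w)))
      have e : ρ k (ρ q w) = ρ (k * q * k⁻¹) (ρ k w) := by rw [← rep_mul, ← rep_mul, inv_mul_cancel_right]
      rw [e, ← hY.1 _ (inQ_conj hq hk), ← rep_mul, ← rep_mul, mul_assoc k, inv_mul_cancel_left]
    · show ρ' k⁻¹ (Y (ρ k w)) = 0
      rw [hY.2 γ' hγ _ (mem_z_of_comm ρ hk hw), map_zero]
  have h := hg Y' hY' (ρ k⁻¹ v)
  change ρ' g (ρ' k⁻¹ (Y (ρ k (ρ k⁻¹ v)))) = ρ' k⁻¹ (Y (ρ k (ρ g (ρ k⁻¹ v)))) at h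
  rw [← rep_mul ρ k k⁻¹, mul_inv_cancel, map_one, Module.End.one_apply] at h
  rw [rep_mul ρ' (k * g), rep_mul ρ', h, ← rep_mul, mul_inv_cancel, map_one, Module.End.one_apply, rep_mul ρ (k * g),
    rep_mul ρ]

variable [Fintype (symMat F n)] (h2 : (2 : F) ≠ 0) (hlow : IsLow ρ) (hlow' : IsLow ρ') (hγ : γ ≠ 0)

include h2 hlow hlow' hγ

theorem fixY_siegelU (S : symMat F n) : FixY ρ ρ' a γ (siegelU S) := fun Y hY v => by
  rw [eq_sum_eigProj (siegelZ_zero ρ) v]
  simp only [map_sum]
  refine Finset.sum_congr rfl fun φ _ => ?_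
  set u := eigProj (siegelZ ρ) φ v
  have hu : u ∈ eigSpace (siegelZ ρ) φ := eigProj_mem (siegelZ_add ρ) φ v
  have hS : ρ (siegelU S) u = φ S • u := hu S
  rw [hS, map_smul]
  by_cases h0 : u = 0
  · simp [h0]
  obtain ⟨c, x, rfl⟩ := exists_qchar ρ hlow (φ := φ) h0
  by_cases hg : c * x a ^ 2 = γ
  swap
  · have : Y u = 0 := hY.2 _ hg u (qSpace_le_z ρ hu a)
    simp [this]
  show siegelZ ρ' S (Y u) = _
  rw [eq_sum_eigProj (siegelZ_zero ρ') (Y u)]
  simp only [map_sum, Finset.smul_sum]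
  refine Finset.sum_congr rfl fun φ' _ => ?_
  rw [(eigProj_mem (siegelZ_add ρ') φ' (Y u)) S]
  by_cases h0' : eigProj (siegelZ ρ') φ' (Y u) = 0
  · simp [h0']
  obtain ⟨c', x', rfl⟩ := exists_qchar ρ' hlow' h0'
  have hQ : ∀ T : symMat F n, (∀ i j, i ≠ a → j ≠ a → T.1 i j = 0) → qchar c' x' T = qchar c x T := fun T hT => by
    have e := congrArg (eigProj (siegelZ ρ') (qchar c' x')) (hY.1 _ (inQ_siegelU_col T hT) u)
    rw [show ρ (siegelU T) u = qchar c x T • u from hu T, map_smul, map_smul,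
      show ρ' (siegelU T) (Y u) = siegelZ ρ' T (Y u) from rfl, eigProj_smul (siegelZ_add ρ')] at e
    exact smul_left_injective ℂ h0' e
  have hcross : ∀ i, c' * (x' a * x' i) = c * (x a * x i) := fun i => by
    refine mul_left_cancel₀ h2 (eq_of_psi0 fun t => ?_)
    have := hQ (t • crossVec (Pi.single a 1) (Pi.single i 1)) (fun p q hp hq => by
      simp [crossVec, vecMulVec_apply, hp, hq])
    rwa [qchar_apply, qchar_apply, qform_cross, qform_cross, single_dotProduct, single_dotProduct, single_dotProduct,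
      single_dotProduct, one_mul, one_mul, one_mul, one_mul] at this
  congr 2
  refine qchar_eq_of_prod fun i j => mul_left_cancel₀ hγ ?_
  have ha : c' * x' a ^ 2 = γ := by rw [← hg, pow_two, pow_two]; exact hcross a
  have hi := hcross i
  have hj := hcross j
  calc γ * (c' * (x' i * x' j)) = (c' * (x' a * x' i)) * (c' * (x' a * x' j)) := by rw [← ha]; ring
    _ = (c * (x a * x i)) * (c * (x a * x j)) := by rw [hi, hj]
    _ = γ * (c * (x i * x j)) := by rw [← hg]; ring

theorem fixY_sigmaJ {J : Finset (Fin n)} (ha : a ∉ J) : FixY ρ ρ' a γ (sigmaJ F J) := by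
  have hl : siegelL (-indSym F J) = sigmaJ F J * siegelU (indSym F J) * (sigmaJ F J)⁻¹ := by
    rw [eq_mul_inv_iff_mul_eq]
    refine Subtype.ext ?_
    show fromBlocks 1 0 (-indSym F J).1 1 * (sigmaJ F J).1 = (sigmaJ F J).1 * fromBlocks 1 (indSym F J).1 0 1
    rw [sigmaJ_val, fromBlocks_multiply, fromBlocks_multiply]
    simp only [indSym, NegMemClass.coe_neg, one_mul, mul_one, zero_mul, mul_zero, add_zero, zero_add, neg_mul,
      indMat_sq, indMat_mul_compl, compl_mul_indMat, neg_zero]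
  have hU := fun S => fixY_siegelU (a := a) (γ := γ) h2 hlow hlow' hγ S
  rw [sigmaJ, hl]
  exact ((hU _).mul ((hU _).conj (sigmaJ_fixes ha))).mul (hU _)

theorem fixY_symm {A : GL (Fin n) F} (hA : A.valᵀ = A.val)
    (hfix : A.val *ᵥ Pi.single a 1 = (Pi.single a 1 : Fin n → F)) : FixY ρ ρ' a γ (siegelM A) := by
  set B := (Finset.univ : Finset (Fin n)).erase a with hB
  set I := indMat F B with hI
  set E := 1 - indMat F B with hE
  have hEd : E = Matrix.single a a 1 := by
    refine Matrix.ext fun i j => ?_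
    rw [hE, hB, indMat, Matrix.sub_apply, Matrix.one_apply, diagonal_apply, Matrix.single_apply]
    by_cases hij : i = j
    · subst hij
      by_cases h : i = a
      · subst h; simp
      · simp [h, Ne.symm h]
    · simp only [hij, if_false, sub_zero]
      rw [if_neg]
      rintro ⟨rfl, rfl⟩
      exact hij rfl
  have hcol : ∀ {M : Matrix (Fin n) (Fin n) F}, M *ᵥ Pi.single a 1 = (Pi.single a 1 : Fin n → F) → Mᵀ = M →
      M * E = E ∧ E * M = E := fun {M} h ht => by
    have h1 : M * E = E := by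
      rw [hEd]
      refine Matrix.ext fun i j => ?_
      by_cases hj : a = j
      · subst hj
        rw [Matrix.mul_single_apply_same, mul_one, Matrix.single_apply]
        have := congrFun h i
        rw [mulVec_single_one, col_apply] at this
        rw [this, Pi.single_apply]
        by_cases hi : i = a
        · subst hi; simp
        · simp [hi, Ne.symm hi]
      · rw [Matrix.mul_single_apply_of_ne _ _ _ _ _ (Ne.symm hj), Matrix.single_apply, if_neg fun h => hj h.2]
    refine ⟨h1, ?_⟩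
    have := congrArg transpose h1
    rwa [transpose_mul, ht, hE, transpose_sub, transpose_one, indMat_transpose, ← hE] at this
  obtain ⟨hAE, hEA⟩ := hcol hfix hA
  have hAi : A⁻¹.valᵀ = A⁻¹.val := by
    have h : A⁻¹.valᵀ * A.val = 1 := by
      conv_lhs => rw [← hA, ← transpose_mul, A.mul_inv, transpose_one]
    calc A⁻¹.valᵀ = A⁻¹.valᵀ * (A.val * A⁻¹.val) := by rw [A.mul_inv, mul_one]
      _ = A⁻¹.val := by rw [← mul_assoc, h, one_mul]
  have hfixi : A⁻¹.val *ᵥ Pi.single a 1 = (Pi.single a 1 : Fin n → F) := by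
    conv_lhs => rw [← hfix, mulVec_mulVec, A.inv_mul, one_mulVec]
  obtain ⟨hAiE, hEAi⟩ := hcol hfixi hAi
  have hEt : Eᵀ = E := by rw [hE, transpose_sub, transpose_one, indMat_transpose]
  have hII : I * I = I := indMat_sq B
  have hEE : E * E = E := compl_sq B
  have hIE : I * E = 0 := indMat_mul_compl B
  have hEI : E * I = 0 := compl_mul_indMat B
  have hsum : I + E = 1 := by rw [hI, hE]; abel
  let S : symMat F n := ⟨A.val - E, by rw [mem_symMat, transpose_sub, hA, hEt]⟩
  let T : symMat F n := ⟨A⁻¹.val - E, by rw [mem_symMat, transpose_sub, hAi, hEt]⟩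
  have hIT : I * T.1 * I = T.1 := by
    show I * (A⁻¹.val - E) * I = A⁻¹.val - E
    rw [show I = 1 - E by rw [← hsum]; abel]
    simp only [sub_mul, mul_sub, one_mul, mul_one, hEAi, hAiE, hEE, sub_self, sub_zero]
  have hl : siegelL (-T) = sigmaJ F B * siegelU T * (sigmaJ F B)⁻¹ := by
    rw [eq_mul_inv_iff_mul_eq]
    refine Subtype.ext ?_
    show fromBlocks 1 0 (-T).1 1 * (sigmaJ F B).1 = (sigmaJ F B).1 * fromBlocks 1 T.1 0 1
    have e1 : T.1 * I = T.1 := by rw [← hIT]; simp only [mul_assoc]; rw [hII]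
    have e2 : I * T.1 = T.1 := by rw [← hIT]; simp only [← mul_assoc]; rw [hII]
    have e3 : T.1 * E = 0 := by rw [← hIT, mul_assoc, hIE, mul_zero]
    have e4 : E * T.1 = 0 := by rw [← hIT, ← mul_assoc, ← mul_assoc, hEI, zero_mul, zero_mul]
    rw [sigmaJ_val, ← hI, ← hE, fromBlocks_multiply, fromBlocks_multiply]
    simp only [NegMemClass.coe_neg, one_mul, mul_one, zero_mul, mul_zero, add_zero, zero_add, neg_mul, e1, e2, e3, e4,
      neg_zero]
  have key : siegelM A * sigmaJ F B = siegelU S * siegelL (-T) * siegelU S := by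
    refine Subtype.ext ?_
    show fromBlocks A.val 0 0 A⁻¹.valᵀ * (sigmaJ F B).1 =
      fromBlocks 1 S.1 0 1 * fromBlocks 1 0 (-T).1 1 * fromBlocks 1 S.1 0 1
    rw [sigmaJ_val, ← hI, ← hE, hAi, fromBlocks_multiply, fromBlocks_multiply, fromBlocks_multiply]
    have hI1 : I = 1 - E := by rw [← hsum]; abel
    simp only [S, T, NegMemClass.coe_neg, hI1, one_mul, mul_one, zero_mul, mul_zero, add_zero, zero_add, mul_neg,
      neg_mul, mul_sub, sub_mul, add_mul, mul_add, A.mul_inv, A.inv_mul, hAE, hEA, hAiE, hEAi, hEE]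
    congr 1 <;> abel
  rw [eq_mul_inv_of_mul_eq key, hl]
  have hU := fun S => fixY_siegelU (a := a) (γ := γ) h2 hlow hlow' hγ S
  have hn : a ∉ B := Finset.notMem_erase a _
  exact (((hU _).mul ((hU _).conj (sigmaJ_fixes hn))).mul (hU _)).mul (fixY_sigmaJ h2 hlow hlow' hγ hn).inv

theorem fixY_levi {A : GL (Fin n) F} (hcol : A.val *ᵥ Pi.single a 1 = (Pi.single a 1 : Fin n → F))
    (hrow : A.valᵀ *ᵥ Pi.single a 1 = (Pi.single a 1 : Fin n → F)) : FixY ρ ρ' a γ (siegelM A) := by
  set M0 : Matrix {i : Fin n // i ≠ a} {i : Fin n // i ≠ a} F := Matrix.of fun i j => A.val i.1 j.1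
  set M0' : Matrix {i : Fin n // i ≠ a} {i : Fin n // i ≠ a} F := Matrix.of fun i j => A⁻¹.val i.1 j.1
  have hc : ∀ i, A.val i a = if i = a then 1 else 0 := fun i => by
    have := congrFun hcol i
    rw [mulVec_single_one, col_apply, Pi.single_apply] at this
    exact this
  have hr : ∀ j, A.val a j = if j = a then 1 else 0 := fun j => by
    have := congrFun hrow j
    rw [mulVec_single_one, col_apply, transpose_apply, Pi.single_apply] at this
    exact this
  have hA : A.val = extMat a M0 := Matrix.ext fun i j => by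
    by_cases hi : i = a
    · subst hi; simp [extMat, hr]
    · by_cases hj : j = a
      · subst hj; simp [extMat, hi, hc]
      · simp [extMat, hi, hj, M0]
  have hdet : M0.det ≠ 0 := by
    have h : M0 * M0' = 1 := Matrix.ext fun i j => by
      have := congrFun (congrFun A.mul_inv i.1) j.1
      rw [Matrix.mul_apply, ← Finset.sum_erase_add Finset.univ _ (Finset.mem_univ a), hc, if_neg i.2, zero_mul,
        add_zero, Finset.sum_subtype (p := fun k : Fin n => k ≠ a) (F := inferInstance) (Finset.univ.erase a) (fun k => by simp)] at this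
      rw [Matrix.mul_apply]
      simp only [M0, M0', Matrix.of_apply]
      rw [this]
      simp [Matrix.one_apply, Subtype.ext_iff]
    intro h0
    have := congrArg Matrix.det h
    rw [det_mul, h0, zero_mul, det_one] at this
    exact zero_ne_one this
  suffices key : ∀ M : Matrix {i : Fin n // i ≠ a} {i : Fin n // i ≠ a} F, M.det ≠ 0 →
      ∀ B : GL (Fin n) F, B.val = extMat a M → FixY ρ ρ' a γ (siegelM B) from key M0 hdet A hA
  intro M hM
  have hsymm : ∀ N : Matrix {i : Fin n // i ≠ a} {i : Fin n // i ≠ a} F, Nᵀ = N →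
      ∀ B : GL (Fin n) F, B.val = extMat a N → FixY ρ ρ' a γ (siegelM B) := fun N hN B hB => by
    refine fixY_symm h2 hlow hlow' hγ (Matrix.ext fun i j => ?_) ?_
    · rw [transpose_apply, hB]
      have e : ∀ p q, N p q = N q p := fun p q => (congrFun (congrFun hN p) q).symm
      by_cases hi : i = a <;> by_cases hj : j = a <;> simp [extMat, hi, hj]
      exact e _ _
    · funext i
      rw [mulVec_single_one, col_apply, hB, Pi.single_apply]
      by_cases hi : i = a <;> simp [extMat, hi]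
  have hmul : ∀ M N : Matrix {i : Fin n // i ≠ a} {i : Fin n // i ≠ a} F, M.det ≠ 0 → N.det ≠ 0 →
      (∀ B : GL (Fin n) F, B.val = extMat a M → FixY ρ ρ' a γ (siegelM B)) →
      (∀ B : GL (Fin n) F, B.val = extMat a N → FixY ρ ρ' a γ (siegelM B)) →
      ∀ B : GL (Fin n) F, B.val = extMat a (M * N) → FixY ρ ρ' a γ (siegelM B) := fun M N hM hN h1 h1' B hB => by
    let BM : GL (Fin n) F := ⟨extMat a M, extMat a M⁻¹,
      by rw [← extMat_mul, mul_nonsing_inv _ (isUnit_iff_ne_zero.2 hM), extMat_one],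
      by rw [← extMat_mul, nonsing_inv_mul _ (isUnit_iff_ne_zero.2 hM), extMat_one]⟩
    let BN : GL (Fin n) F := ⟨extMat a N, extMat a N⁻¹,
      by rw [← extMat_mul, mul_nonsing_inv _ (isUnit_iff_ne_zero.2 hN), extMat_one],
      by rw [← extMat_mul, nonsing_inv_mul _ (isUnit_iff_ne_zero.2 hN), extMat_one]⟩
    rw [show B = BM * BN from Units.ext (hB.trans (extMat_mul a M N)), siegelM_mul]
    exact (h1 BM rfl).mul (h1' BN rfl)
  refine Matrix.diagonal_transvection_induction_of_det_ne_zero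
    (fun M => ∀ B : GL (Fin n) F, B.val = extMat a M → FixY ρ ρ' a γ (siegelM B)) M hM
    (fun D _ => hsymm _ (diagonal_transpose _)) (fun t => ?_) hmul
  obtain ⟨i, j, hij, c⟩ := t
  set W : Matrix {i : Fin n // i ≠ a} {i : Fin n // i ≠ a} F := (Equiv.swap i j).permMatrix F with hW
  have hWW : W * W = 1 := by
    rw [hW, ← Matrix.permMatrix_mul, Equiv.swap_mul_self, Matrix.permMatrix_one]
  have hWt : Wᵀ = W := by rw [hW, Matrix.transpose_permMatrix, Equiv.swap_inv]
  have hTW : transvection i j c * W = W + Matrix.single i i c := by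
    rw [transvection, add_mul, one_mul]
    congr 1
    rw [hW, Equiv.Perm.permMatrix, PEquiv.mul_toMatrix_toPEquiv]
    refine Matrix.ext fun p r => ?_
    rw [Matrix.submatrix_apply, Matrix.single_apply, Matrix.single_apply, Equiv.symm_swap, id_eq]
    refine if_congr (and_congr_right fun _ => ?_) rfl rfl
    constructor
    · intro h
      have := congrArg (Equiv.swap i j) h
      rwa [Equiv.swap_apply_self, Equiv.swap_apply_right] at this
    · intro h
      rw [← h, Equiv.swap_apply_left]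
  have hTWt : (transvection i j c * W)ᵀ = transvection i j c * W := by
    rw [hTW, transpose_add, hWt, Matrix.transpose_single]
  have hdW : W.det ≠ 0 := fun h => by
    have := congrArg Matrix.det hWW
    rw [det_mul, h, zero_mul, det_one] at this
    exact zero_ne_one this
  have hdT : (transvection i j c * W).det ≠ 0 := by
    rw [det_mul, det_transvection_of_ne _ _ hij, one_mul]; exact hdW
  have e : (TransvectionStruct.mk i j hij c).toMatrix = transvection i j c * W * W := by
    rw [mul_assoc, hWW, mul_one]; rfl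
  rw [e]
  exact hmul _ _ hdT hdW (hsymm _ hTWt) (hsymm _ hWt)

end Maps

end Cfsg.Agent.Lib.SpWeil
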