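import Mathlib
import Cfsg.Agent.Lib.SpWeil.Fix

/-!
Maps between the eigenspaces of one rank-one character commute with its stabiliser, and their averages over
the Levi factor commute with the Siegel parabolic.
-/

open Classical

set_option autoImplicit false
set_option linter.unusedSectionVars false

namespace Cfsg.Agent.Lib.SpWeil

open Matrix Cfsg.Agent.Lib.MinDegree

section GLn

variable {F : Type*} [Field F] {n : ℕ}

/-- `1 + u vᵀ` for orthogonal `u`, `v`. -/
def shearGL (u v : Fin n → F) (h : v ⬝ᵥ u = 0) : GL (Fin n) F :=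
  ⟨1 + vecMulVec u v, 1 - vecMulVec u v,
    by rw [add_mul, one_mul, mul_sub, mul_one, vecMulVec_mul_vecMulVec, h, zero_smul, vecMulVec_zero, sub_zero,
      sub_add_cancel],
    by rw [sub_mul, one_mul, mul_add, mul_one, vecMulVec_mul_vecMulVec, h, zero_smul, vecMulVec_zero, add_zero,
      add_sub_cancel_right]⟩

theorem shearGL_val (u v : Fin n → F) (h : v ⬝ᵥ u = 0) : (shearGL u v h).val = 1 + vecMulVec u v := rfl

theorem shearGL_inv_val (u v : Fin n → F) (h : v ⬝ᵥ u = 0) : (shearGL u v h)⁻¹.val = 1 - vecMulVec u v := rfl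

theorem shearGL_mulVec (u v w : Fin n → F) (h : v ⬝ᵥ u = 0) : (shearGL u v h).val *ᵥ w = w + (v ⬝ᵥ w) • u := by
  rw [shearGL_val, add_mulVec, one_mulVec, vecMulVec_mulVec, op_smul_eq_smul]

theorem shearGL_tr_mulVec (u v w : Fin n → F) (h : v ⬝ᵥ u = 0) :
    (shearGL u v h).valᵀ *ᵥ w = w + (u ⬝ᵥ w) • v := by
  rw [shearGL_val, transpose_add, transpose_one, transpose_vecMulVec, add_mulVec, one_mulVec, vecMulVec_mulVec,
    op_smul_eq_smul]

theorem shearGL_inv_tr_mulVec (u v w : Fin n → F) (h : v ⬝ᵥ u = 0) :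
    (shearGL u v h)⁻¹.valᵀ *ᵥ w = w - (u ⬝ᵥ w) • v := by
  rw [shearGL_inv_val, transpose_sub, transpose_one, transpose_vecMulVec, sub_mulVec, one_mulVec, vecMulVec_mulVec,
    op_smul_eq_smul]

theorem mulVec_inv_tr {A : GL (Fin n) F} {x y : Fin n → F} (h : A.valᵀ *ᵥ x = y) : A⁻¹.valᵀ *ᵥ y = x := by
  rw [← h, mulVec_mulVec, ← transpose_mul, A.mul_inv, transpose_one, one_mulVec]

theorem inv_tr_mulVec_injective (A : GL (Fin n) F) : Function.Injective fun x => A⁻¹.valᵀ *ᵥ x := fun x y h => by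
  have := congrArg (fun z => A.valᵀ *ᵥ z) h
  simp only [mulVec_mulVec, ← transpose_mul, A.inv_mul, transpose_one, one_mulVec] at this
  exact this

theorem pm_of_qchar [Fintype F] {c : F} (hc : c ≠ 0) {a : Fin n} {x : Fin n → F}
    (h : qchar c x = qchar c (Pi.single a 1)) : x = Pi.single a 1 ∨ x = -Pi.single a 1 := by
  have hsq : ∀ i, x i ^ 2 = (Pi.single a 1 : Fin n → F) i ^ 2 := fun i => by
    have := qchar_eq_sq h (Pi.single i 1)
    rw [single_dotProduct, single_dotProduct, one_mul, one_mul] at this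
    exact mul_left_cancel₀ hc this
  have h0 : ∀ i, i ≠ a → x i = 0 := fun i hi => pow_eq_zero_iff two_ne_zero |>.1 (by simp [hsq i, hi])
  rcases sq_eq_one_iff.1 (by simpa using hsq a : x a ^ 2 = 1) with e | e
  · refine Or.inl (funext fun i => ?_)
    by_cases hi : i = a
    · subst hi; simp [e]
    · simp [h0 i hi, hi]
  · refine Or.inr (funext fun i => ?_)
    by_cases hi : i = a
    · subst hi; simp [e]
    · simp [h0 i hi, hi]

theorem qchar_neg [Fintype F] (c : F) (x : Fin n → F) : qchar c (-x) = qchar c x :=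
  qchar_eq_of_prod fun i j => by simp

theorem qchar_congMat [Fintype F] (c : F) (x : Fin n → F) (M : Matrix (Fin n) (Fin n) F) :
    (qchar c x).compAddMonoidHom (congMat M).toAddMonoidHom = qchar c (Mᵀ *ᵥ x) :=
  DFunLike.ext _ _ fun S => by
    show qchar c x (congMat M S) = _
    rw [qchar_apply, qform_congMat, qchar_apply]

end GLn

variable {F : Type*} [Field F] [Fintype F] {n : ℕ}

section Maps

variable {V : Type*} [AddCommGroup V] [Module ℂ V] {W : Type*} [AddCommGroup W] [Module ℂ W]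
  {ρ : Representation ℂ (Matrix.symplecticGroup (Fin n) F) V}
  {ρ' : Representation ℂ (Matrix.symplecticGroup (Fin n) F) W}

variable [Fintype (symMat F n)]

variable (ρ ρ') in
/-- A map between the eigenspaces of one character. -/
def IsSeed (c : F) (a : Fin n) (X : V →ₗ[ℂ] W) : Prop :=
  (∀ v, X (eigProj (siegelZ ρ) (qchar c (Pi.single a 1)) v) = X v) ∧ ∀ v, X v ∈ qSpace ρ' c (Pi.single a 1)

variable {c : F} {a : Fin n} {X : V →ₗ[ℂ] W}

theorem IsSeed.apply_proj_zero (hX : IsSeed ρ ρ' c a X) {v : V}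
    (hv : eigProj (siegelZ ρ) (qchar c (Pi.single a 1)) v = 0) : X v = 0 := by
  rw [← hX.1 v, hv, map_zero]

theorem IsSeed.comm_siegelU (hX : IsSeed ρ ρ' c a X) (S : symMat F n) (v : V) :
    ρ' (siegelU S) (X v) = X (ρ (siegelU S) v) := by
  rw [(mem_qSpace ρ').1 (hX.2 v), ← hX.1 (ρ (siegelU S) v)]
  show _ = X (eigProj (siegelZ ρ) _ (siegelZ ρ S v))
  rw [eigProj_smul (siegelZ_add ρ), map_smul, hX.1]

theorem IsSeed.kills (hX : IsSeed ρ ρ' c a X) {c' : F} {x : Fin n → F} {v : V} (hv : v ∈ qSpace ρ c' x)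
    (hne : qchar c' x ≠ qchar c (Pi.single a 1)) : X v = 0 :=
  hX.apply_proj_zero (eigProj_of_ne (Ne.symm hne) hv)

theorem IsSeed.conj (hX : IsSeed ρ ρ' c a X) {A : GL (Fin n) F}
    (hA : A.valᵀ *ᵥ Pi.single a 1 = (Pi.single a 1 : Fin n → F)) :
    IsSeed ρ ρ' c a (ρ' (siegelM A⁻¹) ∘ₗ X ∘ₗ ρ (siegelM A)) := by
  refine ⟨fun v => ?_, fun v => ?_⟩
  · show ρ' _ (X (ρ (siegelM A) _)) = ρ' _ (X (ρ (siegelM A) v))
    conv_rhs => rw [← hX.1 (ρ (siegelM A) v), proj_siegelM, qchar_congMat, hA]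
  · have h := siegelM_mem ρ' (hX.2 (ρ (siegelM A) v)) A⁻¹
    rwa [inv_inv, hA] at h

/-- A shear at the coordinate. -/
def shA (a : Fin n) (y : {y : Fin n → F // y a = 0}) : GL (Fin n) F :=
  shearGL (Pi.single a 1) (-y.1) (by simp [y.2])

omit [Fintype F] [Fintype (symMat F n)] in
theorem shA_fix (a : Fin n) (y : {y : Fin n → F // y a = 0}) :
    (shA a y).val *ᵥ Pi.single a 1 = (Pi.single a 1 : Fin n → F) := by
  rw [shA, shearGL_mulVec, dotProduct_single, mul_one, Pi.neg_apply, y.2, neg_zero, zero_smul, add_zero]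

omit [Fintype F] [Fintype (symMat F n)] in
theorem shA_inv_fix (a : Fin n) (y : {y : Fin n → F // y a = 0}) :
    (shA a y)⁻¹.val *ᵥ Pi.single a 1 = (Pi.single a 1 : Fin n → F) := by
  conv_lhs => rw [← shA_fix a y, mulVec_mulVec, (shA a y).inv_mul, one_mulVec]

omit [Fintype (symMat F n)] in
theorem exists_shA_of_inQ {g : Matrix.symplecticGroup (Fin n) F} (hg : InQ a g) :
    ∃ y S, g = siegelM (shA a y) * siegelU S := by
  obtain ⟨A, S, rfl⟩ := exists_of_inP (inP_of_inQ hg)
  have hcol : ∀ w : Fin n → F, ∃ t : F, A.val *ᵥ w = w + t • (Pi.single a 1 : Fin n → F) := fun w => by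
    obtain ⟨t, ht⟩ := hg.2 (Sum.elim w 0) (by simp)
    refine ⟨t, funext fun i => ?_⟩
    have h := congrFun ht (Sum.inl i)
    have e : ((siegelM A * siegelU S).1 *ᵥ Sum.elim w 0) (Sum.inl i) = (A.val *ᵥ w) i := by
      show ((fromBlocks A.val 0 0 A⁻¹.valᵀ * fromBlocks 1 S.1 0 1) *ᵥ Sum.elim w 0) (Sum.inl i) = _
      rw [fromBlocks_multiply, fromBlocks_mulVec]
      simp [Sum.elim_comp_inl, Sum.elim_comp_inr]
    rw [e] at h
    simpa [eA, Pi.single_apply] using h
  have ha : A.val *ᵥ Pi.single a 1 = (Pi.single a 1 : Fin n → F) := by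
    have h := hg.1
    rw [show (siegelM A * siegelU S).1 = (siegelM A).1 * (siegelU S).1 from rfl, ← mulVec_mulVec, siegelU_fixes] at h
    funext i
    have := congrFun h (Sum.inl i)
    have e : ((siegelM A).1 *ᵥ eA a) (Sum.inl i) = (A.val *ᵥ Pi.single a 1) i := by
      show (fromBlocks A.val 0 0 A⁻¹.valᵀ *ᵥ eA a) (Sum.inl i) = _
      have e1 : eA (F := F) a ∘ Sum.inl = Pi.single a 1 := by funext i; simp [eA, Pi.single_apply]
      rw [fromBlocks_mulVec]
      simp [e1]
    rw [e] at this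
    simpa [eA, Pi.single_apply] using this
  refine ⟨⟨fun j => if j = a then 0 else -A.val a j, by simp⟩, S, ?_⟩
  congr 2
  refine Units.ext (Matrix.ext fun i j => ?_)
  rw [shA, shearGL_val, Matrix.add_apply, vecMulVec_apply]
  by_cases hj : j = a
  · subst hj
    have := congrFun ha i
    rw [mulVec_single_one, col_apply] at this
    rw [this]
    simp [Matrix.one_apply, Pi.single_apply]
  · obtain ⟨t, ht⟩ := hcol (Pi.single j 1)
    have h1 := congrFun ht i
    rw [mulVec_single_one, col_apply] at h1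
    by_cases hi : i = a
    · subst hi
      simp [hj, Ne.symm hj, Matrix.one_apply]
    · rw [h1]
      simp [hi, hj, Matrix.one_apply, Pi.single_apply]

variable (ρ ρ') in
/-- The extension over the shears. -/
noncomputable def extY (a : Fin n) (X : V →ₗ[ℂ] W) : V →ₗ[ℂ] W :=
  ∑ y : {y : Fin n → F // y a = 0}, ρ' (siegelM (shA a y)) ∘ₗ X ∘ₗ ρ (siegelM (shA a y)⁻¹)

theorem extY_apply (v : V) : extY ρ ρ' a X v =
    ∑ y : {y : Fin n → F // y a = 0}, ρ' (siegelM (shA a y)) (X (ρ (siegelM (shA a y)⁻¹) v)) := by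
  simp [extY]

theorem IsSeed.comm_conj (hX : IsSeed ρ ρ' c a X) (A : GL (Fin n) F) (S : symMat F n) (v : V) :
    ρ' (siegelU S) (ρ' (siegelM A) (X (ρ (siegelM A⁻¹) v))) =
      ρ' (siegelM A) (X (ρ (siegelM A⁻¹) (ρ (siegelU S) v))) := by
  have e : siegelU S * siegelM A = siegelM A * siegelU (congMat A⁻¹.val S) := by
    rw [siegelM_mul_U]
    congr 2
    refine Subtype.ext ?_
    show S.1 = A.val * (A⁻¹.val * S.1 * A⁻¹.valᵀ) * A.valᵀ
    rw [← mul_assoc, ← mul_assoc, A.mul_inv, one_mul, mul_assoc, ← transpose_mul, A.mul_inv, transpose_one, mul_one]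
  rw [← rep_mul ρ', e, rep_mul, hX.comm_siegelU, ← rep_mul ρ, ← rep_mul ρ, siegelM_mul_U]

theorem isY_extY (hX : IsSeed ρ ρ' c a X) : IsY ρ ρ' a c (extY ρ ρ' a X) := by
  refine ⟨fun g hg v => ?_, fun γ' hγ' v hv => ?_⟩
  · obtain ⟨y0, S, rfl⟩ := exists_shA_of_inQ hg
    rw [rep_mul, rep_mul, extY_apply, extY_apply, map_sum, map_sum]
    let e : {y : Fin n → F // y a = 0} ≃ {y : Fin n → F // y a = 0} :=
      { toFun := fun y => ⟨y0.1 + y.1, by simp [y0.2, y.2]⟩
        invFun := fun y => ⟨y.1 - y0.1, by simp [y0.2, y.2]⟩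
        left_inv := fun y => Subtype.ext (by simp)
        right_inv := fun y => Subtype.ext (by simp) }
    refine Fintype.sum_equiv e _ _ fun y => ?_
    have hsh : shA a (e y) = shA a y0 * shA a y := by
      refine Units.ext ?_
      rw [Units.val_mul, shA, shA, shA, shearGL_val, shearGL_val, shearGL_val, add_mul, one_mul, mul_add, mul_one,
        vecMulVec_mul_vecMulVec]
      simp [e, y.2, y0.2, vecMulVec_add, vecMulVec_neg]
      abel
    rw [hX.comm_conj, hsh, _root_.mul_inv_rev, siegelM_mul, siegelM_mul, rep_mul ρ', rep_mul ρ]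
    congr 3
    rw [← rep_mul ρ (siegelM (shA a y0)⁻¹), ← siegelM_mul, inv_mul_cancel, siegelM_one, map_one, Module.End.one_apply]
  · rw [extY_apply]
    refine Finset.sum_eq_zero fun y _ => ?_
    have hw := mem_z_of_comm ρ (siegelM_fixes (shA_inv_fix a y)) hv
    rw [hX.apply_proj_zero, map_zero]
    rw [← proj_zProj ρ (a := a) (γ := c) (by simp), eigProj_of_ne (fun h => hγ' (zchar_injective h).symm) hw, map_zero]

theorem extY_eq (hc : c ≠ 0) (hX : IsSeed ρ ρ' c a X) {v : V} (hv : v ∈ qSpace ρ c (Pi.single a 1)) :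
    extY ρ ρ' a X v = X v := by
  rw [extY_apply, Finset.sum_eq_single ⟨0, rfl⟩]
  · have e : shA a (⟨0, rfl⟩ : {y : Fin n → F // y a = 0}) = 1 := Units.ext (by simp [shA, shearGL_val])
    rw [e, inv_one, siegelM_one, map_one, map_one]; rfl
  · intro y _ hy
    have hm := siegelM_mem ρ hv (shA a y)⁻¹
    rw [inv_inv] at hm
    rw [hX.kills hm, map_zero]
    intro h
    refine hy (Subtype.ext ?_)
    have hval : (shA a y).valᵀ *ᵥ (Pi.single a 1 : Fin n → F) = Pi.single a 1 - y.1 := by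
      rw [shA, shearGL_tr_mulVec, single_dotProduct, one_mul, Pi.single_eq_same, one_smul, sub_eq_add_neg]
    rw [hval] at h
    rcases pm_of_qchar hc h with e | e
    · simpa using e
    · funext i
      by_cases hi : i = a
      · subst hi; simp [y.2]
      · have := congrFun e i
        simpa [hi] using this
  · exact fun h => absurd (Finset.mem_univ _) h

variable (h2 : (2 : F) ≠ 0) (hlow : IsLow ρ) (hlow' : IsLow ρ') (hc : c ≠ 0)

include h2 hlow hlow' hc

theorem IsSeed.comm_levi (hX : IsSeed ρ ρ' c a X) {A : GL (Fin n) F}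
    (hcol : A.val *ᵥ Pi.single a 1 = (Pi.single a 1 : Fin n → F))
    (hrow : A.valᵀ *ᵥ Pi.single a 1 = (Pi.single a 1 : Fin n → F)) {v : V}
    (hv : v ∈ qSpace ρ c (Pi.single a 1)) : ρ' (siegelM A) (X v) = X (ρ (siegelM A) v) := by
  have h := fixY_levi h2 hlow hlow' hc hcol hrow _ (isY_extY hX) v
  have hm := siegelM_mem ρ hv A
  rw [mulVec_inv_tr hrow] at hm
  rwa [extY_eq hc hX hv, extY_eq hc hX hm] at h

theorem IsSeed.comm_shear (hX : IsSeed ρ ρ' c a X) {z : Fin n → F} (hz : z a = 0) {v : V}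
    (hv : v ∈ qSpace ρ c (Pi.single a 1)) :
    ρ' (siegelM (shearGL z (Pi.single a 1) (by simp [hz]))) (X v) =
      X (ρ (siegelM (shearGL z (Pi.single a 1) (by simp [hz]))) v) := by
  set w : Fin n → F := (2 : F)⁻¹ • z with hw
  have hwa : (Pi.single a 1 : Fin n → F) ⬝ᵥ w = 0 := by simp [hw, hz]
  set T := shearGL w (Pi.single a 1) hwa with hT
  set d : Fin n → F := fun i => if i = a then 1 else -1 with hd
  let D : GL (Fin n) F := ⟨diagonal d, diagonal d,
    by rw [diagonal_mul_diagonal, ← diagonal_one]; exact congrArg diagonal (funext fun i => by by_cases h : i = a <;> simp [hd, h]),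
    by rw [diagonal_mul_diagonal, ← diagonal_one]; exact congrArg diagonal (funext fun i => by by_cases h : i = a <;> simp [hd, h])⟩
  have hTtr : T.valᵀ *ᵥ (Pi.single a 1 : Fin n → F) = Pi.single a 1 := by
    rw [hT, shearGL_tr_mulVec, dotProduct_comm, hwa, zero_smul, add_zero]
  have hDe : D.val *ᵥ (Pi.single a 1 : Fin n → F) = Pi.single a 1 := by
    funext i
    show (diagonal d *ᵥ _) i = _
    rw [mulVec_diagonal]
    by_cases h : i = a
    · subst h; simp [hd]
    · simp [hd, h]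
  have hDt : D.valᵀ *ᵥ (Pi.single a 1 : Fin n → F) = Pi.single a 1 := by
    have : D.valᵀ = D.val := diagonal_transpose d
    rw [this, hDe]
  have hDT : D * T = T⁻¹ * D := by
    refine Units.ext (Matrix.ext fun i j => ?_)
    show (diagonal d * (1 + vecMulVec w (Pi.single a 1))) i j = ((1 - vecMulVec w (Pi.single a 1)) * diagonal d) i j
    rw [diagonal_mul, mul_diagonal, Matrix.add_apply, Matrix.sub_apply, vecMulVec_apply, Matrix.one_apply]
    by_cases hij : i = j
    · subst hij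
      by_cases hi : i = a
      · subst hi; simp [hw, hz, hd]
      · simp [hd, hi]
    · by_cases hj : j = a
      · subst hj
        simp [hd, hij, hw]
      · simp [hij, hd, hj]
  have hDT' : D * T⁻¹ = T * D := by
    rw [mul_inv_eq_iff_eq_mul, mul_assoc, hDT, ← mul_assoc, mul_inv_cancel, one_mul]
  have hmem : ∀ {A : GL (Fin n) F} {u : V}, A.valᵀ *ᵥ (Pi.single a 1 : Fin n → F) = Pi.single a 1 →
      u ∈ qSpace ρ c (Pi.single a 1) → ρ (siegelM A) u ∈ qSpace ρ c (Pi.single a 1) := fun {A u} hA hu => by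
    have := siegelM_mem ρ hu A
    rwa [mulVec_inv_tr hA] at this
  -- the negated shear has the same effect
  have key : ∀ u ∈ qSpace ρ c (Pi.single a 1),
      ρ' (siegelM T) (X (ρ (siegelM T⁻¹) u)) = ρ' (siegelM T⁻¹) (X (ρ (siegelM T) u)) := fun u hu => by
    have hu' : ρ (siegelM D⁻¹) u ∈ qSpace ρ c (Pi.single a 1) := hmem (mulVec_inv_tr hDt) hu
    have h1 := (hX.conj hTtr).comm_levi h2 hlow hlow' hc hDe hDt hu'
    simp only [LinearMap.comp_apply] at h1
    rw [← rep_mul ρ', ← siegelM_mul, hDT', siegelM_mul, rep_mul, hX.comm_levi h2 hlow hlow' hc hDe hDt (hmem hTtr hu'),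
      ← rep_mul ρ (siegelM D), ← siegelM_mul, hDT, siegelM_mul, rep_mul, ← rep_mul ρ (siegelM D), ← siegelM_mul,
      mul_inv_cancel, siegelM_one, map_one, Module.End.one_apply] at h1
    exact h1
  have h3 := congrArg (ρ' (siegelM T)) (key _ (hmem hTtr hv))
  rw [← rep_mul ρ', ← rep_mul ρ', ← siegelM_mul, ← siegelM_mul, mul_inv_cancel, siegelM_one, map_one,
    Module.End.one_apply, ← rep_mul ρ, ← rep_mul ρ, ← siegelM_mul, ← siegelM_mul, inv_mul_cancel, siegelM_one, map_one,
    Module.End.one_apply] at h3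
  have hTT : T * T = shearGL z (Pi.single a 1) (by simp [hz]) := by
    refine Units.ext ?_
    rw [Units.val_mul, hT, shearGL_val, shearGL_val, add_mul, one_mul, mul_add, mul_one, vecMulVec_mul_vecMulVec, hwa,
      zero_smul, vecMulVec_zero, add_zero, add_assoc, ← add_vecMulVec, hw, ← add_smul]
    rw [show (2 : F)⁻¹ + 2⁻¹ = 1 by field_simp; norm_num, one_smul]
  rwa [hTT] at h3

theorem IsSeed.comm_stab (hX : IsSeed ρ ρ' c a X) {ε : ℂ} (hε : ∀ v, ρ (siegelM (-1)) v = ε • v)
    (hε' : ∀ w, ρ' (siegelM (-1)) w = ε • w) {A : GL (Fin n) F}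
    (hA : A.valᵀ *ᵥ Pi.single a 1 = (Pi.single a 1 : Fin n → F) ∨
      A.valᵀ *ᵥ Pi.single a 1 = -(Pi.single a 1 : Fin n → F)) {v : V}
    (hv : v ∈ qSpace ρ c (Pi.single a 1)) : ρ' (siegelM A) (X v) = X (ρ (siegelM A) v) := by
  have hpos : ∀ {B : GL (Fin n) F}, B.valᵀ *ᵥ Pi.single a 1 = (Pi.single a 1 : Fin n → F) → ∀ u ∈
      qSpace ρ c (Pi.single a 1), ρ' (siegelM B) (X u) = X (ρ (siegelM B) u) := by
    intro B hB u hu
    have hrow : B.val a a = 1 := by
      have := congrFun hB a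
      rwa [mulVec_single_one, col_apply, transpose_apply, Pi.single_eq_same] at this
    set z : Fin n → F := B.val *ᵥ Pi.single a 1 - Pi.single a 1 with hz
    have hza : z a = 0 := by simp [hz, mulVec_single_one, hrow]
    have hz0 : (Pi.single a 1 : Fin n → F) ⬝ᵥ z = 0 := by simp [hza]
    set T := shearGL z (Pi.single a 1) hz0 with hT
    have hTe : T.val *ᵥ (Pi.single a 1 : Fin n → F) = B.val *ᵥ Pi.single a 1 := by
      rw [hT, shearGL_mulVec, dotProduct_single, mul_one, Pi.single_eq_same, one_smul, hz, add_sub_cancel]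
    have hcol : (T⁻¹ * B).val *ᵥ (Pi.single a 1 : Fin n → F) = Pi.single a 1 := by
      rw [Units.val_mul, ← mulVec_mulVec, ← hTe, mulVec_mulVec, T.inv_mul, one_mulVec]
    have hrow' : (T⁻¹ * B).valᵀ *ᵥ (Pi.single a 1 : Fin n → F) = Pi.single a 1 := by
      rw [Units.val_mul, transpose_mul, ← mulVec_mulVec, hT, shearGL_inv_tr_mulVec, dotProduct_comm, hz0, zero_smul,
        sub_zero, hB]
    have hu' : ρ (siegelM (T⁻¹ * B)) u ∈ qSpace ρ c (Pi.single a 1) := by
      have := siegelM_mem ρ hu (T⁻¹ * B)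
      rwa [mulVec_inv_tr hrow'] at this
    rw [show B = T * (T⁻¹ * B) by rw [mul_inv_cancel_left], siegelM_mul, rep_mul, rep_mul,
      hX.comm_levi h2 hlow hlow' hc hcol hrow' hu, hT, hX.comm_shear h2 hlow hlow' hc hza (hT ▸ hu')]
  rcases hA with hA | hA
  · exact hpos hA v hv
  · have h' : (-A).valᵀ *ᵥ Pi.single a 1 = (Pi.single a 1 : Fin n → F) := by
      rw [Units.val_neg, transpose_neg, neg_mulVec, hA, neg_neg]
    rw [show A = (-1) * (-A) by rw [neg_one_mul, neg_neg], siegelM_mul, rep_mul, rep_mul, hε, hε', map_smul,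
      hpos h' v hv]

end Maps

end Cfsg.Agent.Lib.SpWeil
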