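import Mathlib
import Cfsg.Agent.Lib.SpWeil.Seed

/-!
A map commuting with the Siegel parabolic commutes with the whole group, up to vectors fixed by the radical.
-/

open Classical

set_option autoImplicit false
set_option linter.unusedSectionVars false

namespace Cfsg.Agent.Lib.SpWeil

open Matrix Cfsg.Agent.Lib.MinDegree

variable {F : Type*} [Field F] [Fintype F] {n : ℕ}

omit [Fintype F] in
theorem sigmaJ_congr {J : Finset (Fin n)} {R R' : GL (Fin n) F} (hR' : R'.val = R.valᵀ)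
    (hl : (1 - indMat F J) * R.val = 1 - indMat F J) (hr : R.val * (1 - indMat F J) = 1 - indMat F J) :
    siegelM R' * sigmaJ F J * siegelM R = sigmaJ F J := by
  set E := 1 - indMat F J with hE
  have hI : indMat F J = 1 - E := by rw [hE]; abel
  have hEt : Eᵀ = E := by rw [hE, transpose_sub, transpose_one, indMat_transpose]
  have hl' : E * R⁻¹.val = E := by
    conv_lhs => rw [← hl, mul_assoc, R.mul_inv, mul_one]
  have hr' : R⁻¹.val * E = E := by
    conv_lhs => rw [← hr, ← mul_assoc, R.inv_mul, one_mul]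
  have hinv : R'⁻¹.val = R⁻¹.valᵀ := by
    have h : R'⁻¹.val = R'⁻¹.val * (R'.val * R⁻¹.valᵀ) := by
      rw [hR', ← transpose_mul, R.inv_mul, transpose_one, mul_one]
    rw [h, ← mul_assoc, R'.inv_mul, one_mul]
  refine Subtype.ext ?_
  show fromBlocks R'.val 0 0 R'⁻¹.valᵀ * (sigmaJ F J).1 * fromBlocks R.val 0 0 R⁻¹.valᵀ = (sigmaJ F J).1
  rw [sigmaJ_val, hinv, hR', transpose_transpose, ← hE, hI, fromBlocks_multiply, fromBlocks_multiply]
  simp only [zero_mul, mul_zero, add_zero, zero_add, mul_neg, neg_mul, neg_zero]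
  have ht : R.valᵀ * E = E := by
    conv_lhs => rw [← hEt, ← transpose_mul, hl, hEt]
  have ht' : E * R⁻¹.valᵀ = E := by
    conv_lhs => rw [← hEt, ← transpose_mul, hr', hEt]
  have e1 : R.valᵀ * E * R.val = E := by rw [ht, hl]
  have e2 : R.valᵀ * (1 - E) * R⁻¹.valᵀ = 1 - E := by
    rw [mul_sub, mul_one, ht, sub_mul, ← transpose_mul, R.inv_mul, transpose_one, ht']
  have e3 : R⁻¹.val * (1 - E) * R.val = 1 - E := by
    rw [mul_sub, mul_one, hr', sub_mul, R.inv_mul, hl]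
  have e4 : R⁻¹.val * E * R⁻¹.valᵀ = E := by rw [hr', ht']
  rw [e1, e2, e3, e4]

theorem ne_zero_of_qchar {c : F} {x : Fin n → F} (h : qchar c x ≠ 0) : c ≠ 0 ∧ x ≠ 0 := by
  constructor <;> rintro rfl <;> refine h (DFunLike.ext _ _ fun S => ?_) <;>
    simp [qchar_apply, AddChar.map_zero_eq_one]

section Maps

variable {V : Type*} [AddCommGroup V] [Module ℂ V] {W : Type*} [AddCommGroup W] [Module ℂ W]
  (ρ : Representation ℂ (Matrix.symplecticGroup (Fin n) F) V)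
  (ρ' : Representation ℂ (Matrix.symplecticGroup (Fin n) F) W)

/-- Commuting with the Siegel parabolic. -/
def IsPY (Y : V →ₗ[ℂ] W) : Prop := ∀ p, InP p → ∀ v, ρ' p (Y v) = Y (ρ p v)

/-- The failure to commute. -/
noncomputable def delta (Y : V →ₗ[ℂ] W) (g : Matrix.symplecticGroup (Fin n) F) : V →ₗ[ℂ] W :=
  ρ' g ∘ₗ Y - Y ∘ₗ ρ g

theorem delta_apply (Y : V →ₗ[ℂ] W) (g : Matrix.symplecticGroup (Fin n) F) (v : V) :
    delta ρ ρ' Y g v = ρ' g (Y v) - Y (ρ g v) := rfl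

theorem delta_mul (Y : V →ₗ[ℂ] W) (g h : Matrix.symplecticGroup (Fin n) F) (v : V) :
    delta ρ ρ' Y (g * h) v = delta ρ ρ' Y g (ρ h v) + ρ' g (delta ρ ρ' Y h v) := by
  simp only [delta_apply, rep_mul, map_sub]
  abel

variable {ρ ρ'} {Y : V →ₗ[ℂ] W}

theorem IsPY.delta_eq (hY : IsPY ρ ρ' Y) {p p' : Matrix.symplecticGroup (Fin n) F} (hp : InP p) (hp' : InP p')
    (s : Matrix.symplecticGroup (Fin n) F) (v : V) :
    delta ρ ρ' Y (p * s * p') v = ρ' p (delta ρ ρ' Y s (ρ p' v)) := by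
  rw [delta_apply, delta_apply, rep_mul ρ', rep_mul ρ', rep_mul ρ, rep_mul ρ, map_sub, hY p' hp', hY p hp]

variable [Fintype (symMat F n)] (h2 : (2 : F) ≠ 0) (hlow : IsLow ρ) (hlow' : IsLow ρ') (hY : IsPY ρ ρ' Y)

include h2 hlow hlow' hY

theorem zProj_delta {a : Fin n} {γ : F} (hγ : γ ≠ 0) {J : Finset (Fin n)} (ha : a ∉ J) (w : V) :
    eigProj (zFam ρ' a) (zchar γ) (delta ρ ρ' Y (sigmaJ F J) w) = 0 := by
  have hz : ∀ v, Y (eigProj (zFam ρ a) (zchar γ) v) = eigProj (zFam ρ' a) (zchar γ) (Y v) := fun v => by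
    simp only [eigProj, LinearMap.smul_apply, LinearMap.sum_apply, map_smul, map_sum]
    congr 1
    refine Finset.sum_congr rfl fun t _ => ?_
    rw [show zFam ρ' a t (Y v) = Y (zFam ρ a t v) from hY _ (inP_siegelU _) v]
  have hYz : IsY ρ ρ' a γ (Y ∘ₗ eigProj (zFam ρ a) (zchar γ)) := by
    refine ⟨fun g hg v => ?_, fun γ' hγ' v hv => ?_⟩
    · simp only [LinearMap.comp_apply]
      rw [zProj_comm ρ hg.1, hY g (inP_of_inQ hg)]
    · rw [LinearMap.comp_apply, eigProj_of_ne (fun h => hγ' (zchar_injective h).symm) hv, map_zero]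
  have h := fixY_sigmaJ h2 hlow hlow' hγ ha _ hYz w
  simp only [LinearMap.comp_apply] at h
  rw [delta_apply, map_sub, zProj_comm ρ' (sigmaJ_fixes ha), ← hz, ← hz, h, sub_self]

theorem delta_eq_zero_of_z {a : Fin n} {γ : F} (hγ : γ ≠ 0) {J : Finset (Fin n)} (ha : a ∉ J) {w : V}
    (hw : w ∈ eigSpace (zFam ρ a) (zchar γ)) : delta ρ ρ' Y (sigmaJ F J) w = 0 := by
  have h := zProj_delta h2 hlow hlow' hY hγ ha w
  have hm : delta ρ ρ' Y (sigmaJ F J) w ∈ eigSpace (zFam ρ' a) (zchar γ) := by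
    have hYm : ∀ v ∈ eigSpace (zFam ρ a) (zchar γ), Y v ∈ eigSpace (zFam ρ' a) (zchar γ) := fun v hv t => by
      rw [show zFam ρ' a t (Y v) = Y (zFam ρ a t v) from hY _ (inP_siegelU _) v, hv t, map_smul]
    exact sub_mem (mem_z_of_comm ρ' (sigmaJ_fixes ha) (hYm w hw)) (hYm _ (mem_z_of_comm ρ (sigmaJ_fixes ha) hw))
  rwa [eigProj_of_mem (zchar γ) hm] at h

theorem proj_delta_of_notMem {J : Finset (Fin n)} {c1 c2 : F} {x1 x2 : Fin n → F} (h1 : c1 ≠ 0) (h2' : c2 ≠ 0)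
    {a : Fin n} (ha : a ∉ J) (hx : x1 a ≠ 0 ∨ x2 a ≠ 0) {w : V} (hw : w ∈ qSpace ρ c1 x1) :
    eigProj (siegelZ ρ') (qchar c2 x2) (delta ρ ρ' Y (sigmaJ F J) w) = 0 := by
  rcases hx with hx | hx
  · rw [delta_eq_zero_of_z h2 hlow hlow' hY (mul_ne_zero h1 (pow_ne_zero 2 hx)) ha (qSpace_le_z ρ hw a), map_zero]
  · rw [← proj_zProj ρ' (a := a) rfl, zProj_delta h2 hlow hlow' hY (mul_ne_zero h2' (pow_ne_zero 2 hx)) ha, map_zero]

theorem proj_delta_of_ne {J : Finset (Fin n)} {c1 c2 : F} {x1 x2 : Fin n → F} (h1 : c1 ≠ 0) (h2' : c2 ≠ 0)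
    {a b : Fin n} (hab : a ≠ b) (ha : x1 a ≠ 0) (hb : x2 b ≠ 0) {w : V} (hw : w ∈ qSpace ρ c1 x1) :
    eigProj (siegelZ ρ') (qchar c2 x2) (delta ρ ρ' Y (sigmaJ F J) w) = 0 := by
  by_cases haJ : a ∈ J
  swap
  · exact proj_delta_of_notMem h2 hlow hlow' hY h1 h2' haJ (Or.inl ha) hw
  have hu : J = {a} ∪ J.erase a := by
    rw [← Finset.insert_eq, Finset.insert_erase haJ]
  rw [hu, sigmaJ_union (by simp), delta_mul,
    delta_eq_zero_of_z h2 hlow hlow' hY (mul_ne_zero h1 (pow_ne_zero 2 ha)) (Finset.notMem_erase a J)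
      (qSpace_le_z ρ hw a), map_zero, add_zero, ← proj_zProj ρ' (a := b) rfl,
    zProj_delta h2 hlow hlow' hY (mul_ne_zero h2' (pow_ne_zero 2 hb)) (by simp [Ne.symm hab]), map_zero]

theorem proj_delta_of_not_singleton {J : Finset (Fin n)} (hJ : ∀ a, J ≠ {a}) {c1 c2 : F} {x1 x2 : Fin n → F}
    (h1 : c1 ≠ 0) (hx1 : x1 ≠ 0) (h2' : c2 ≠ 0) (hx2 : x2 ≠ 0) {w : V} (hw : w ∈ qSpace ρ c1 x1) :
    eigProj (siegelZ ρ') (qchar c2 x2) (delta ρ ρ' Y (sigmaJ F J) w) = 0 := by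
  obtain ⟨a, ha⟩ := Function.ne_iff.1 hx1
  obtain ⟨b, hb⟩ := Function.ne_iff.1 hx2
  by_cases hab : a ≠ b
  · exact proj_delta_of_ne h2 hlow hlow' hY h1 h2' hab ha hb hw
  push Not at hab
  subst hab
  by_cases haJ : a ∈ J
  swap
  · exact proj_delta_of_notMem h2 hlow hlow' hY h1 h2' haJ (Or.inl ha) hw
  obtain ⟨b, hbJ, hba⟩ : ∃ b ∈ J, b ≠ a := by
    by_contra hne
    push Not at hne
    exact hJ a (Finset.eq_singleton_iff_unique_mem.2 ⟨haJ, hne⟩)
  by_cases hb1 : x1 b ≠ 0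
  · exact proj_delta_of_ne h2 hlow hlow' hY h1 h2' hba hb1 hb hw
  by_cases hb2 : x2 b ≠ 0
  · exact proj_delta_of_ne h2 hlow hlow' hY h1 h2' (Ne.symm hba) ha hb2 hw
  push Not at hb1 hb2
  set ea : Fin n → F := Pi.single a 1 with hea
  set eb : Fin n → F := Pi.single b 1 with heb
  have hab0 : ea ⬝ᵥ eb = 0 := by simp [hea, heb, hba]
  have hba0 : eb ⬝ᵥ ea = 0 := by rw [dotProduct_comm, hab0]
  set R := shearGL eb ea hab0 with hR
  set R' := shearGL ea eb hba0 with hR'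
  have hval : R'.val = R.valᵀ := by
    rw [hR, hR', shearGL_val, shearGL_val, transpose_add, transpose_one, transpose_vecMulVec]
  have hIa : ∀ i ∈ J, (1 - indMat F J) *ᵥ (Pi.single i 1 : Fin n → F) = 0 := fun i hi => by
    funext k
    rw [sub_mulVec, one_mulVec, indMat, Pi.sub_apply, mulVec_diagonal]
    by_cases hk : k = i
    · subst hk; simp [hi]
    · simp [hk]
  have hl : (1 - indMat F J) * R.val = 1 - indMat F J := by
    rw [hR, shearGL_val, mul_add, mul_one, mul_vecMulVec, heb, hIa b hbJ, zero_vecMulVec, add_zero]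
  have hr : R.val * (1 - indMat F J) = 1 - indMat F J := by
    rw [hR, shearGL_val, add_mul, one_mul, vecMulVec_mul, ← mulVec_transpose, transpose_sub, transpose_one,
      indMat_transpose, hea, hIa a haJ, vecMulVec_zero, add_zero]
  have hconj := sigmaJ_congr hval hl hr
  rw [← hconj, hY.delta_eq (inP_siegelM _) (inP_siegelM _), proj_siegelM, qchar_congMat,
    proj_delta_of_ne h2 hlow hlow' hY h1 h2' (Ne.symm hba) ?_ ?_ (siegelM_mem ρ hw R), map_zero]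
  · rw [hR, shearGL_inv_tr_mulVec, heb, single_dotProduct, hb1, mul_zero, zero_smul, sub_zero]
    exact ha
  · rw [hval, transpose_transpose, hR, shearGL_mulVec, hea, single_dotProduct, one_mul, heb]
    simp [hb2]
    exact hb

theorem proj_delta (hn : 2 ≤ n) (J : Finset (Fin n)) {c1 c2 : F} {x1 x2 : Fin n → F}
    (h1 : c1 ≠ 0) (hx1 : x1 ≠ 0) (h2' : c2 ≠ 0) (hx2 : x2 ≠ 0) {w : V} (hw : w ∈ qSpace ρ c1 x1) :
    eigProj (siegelZ ρ') (qchar c2 x2) (delta ρ ρ' Y (sigmaJ F J) w) = 0 := by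
  by_cases hJ : ∀ a, J ≠ {a}
  · exact proj_delta_of_not_singleton h2 hlow hlow' hY hJ h1 hx1 h2' hx2 hw
  push Not at hJ
  obtain ⟨a, rfl⟩ := hJ
  by_cases h0 : ∃ i, i ≠ a ∧ x2 i ≠ 0
  · obtain ⟨i, hi, hxi⟩ := h0
    exact proj_delta_of_notMem h2 hlow hlow' hY h1 h2' (a := i) (by simpa using hi) (Or.inr hxi) hw
  push Not at h0
  have hxa : x2 a ≠ 0 := fun h => hx2 (funext fun i => by
    by_cases hi : i = a
    · rw [hi, h]; rfl
    · exact h0 i hi)
  haveI : Nontrivial (Fin n) := Fin.nontrivial_iff_two_le.2 hn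
  obtain ⟨b, hba⟩ := exists_ne a
  have hγ : c2 * x2 a ^ 2 ≠ 0 := mul_ne_zero h2' (pow_ne_zero 2 hxa)
  have hpair : eigProj (zFam ρ' a) (zchar (c2 * x2 a ^ 2))
      (delta ρ ρ' Y (sigmaJ F ({b} ∪ {a})) w) = 0 := by
    rw [eq_sum_eigProj (siegelZ_zero ρ') (eigProj _ _ (delta ρ ρ' Y _ w))]
    refine Finset.sum_eq_zero fun φ _ => ?_
    by_contra hne
    obtain ⟨c', x', rfl⟩ := exists_qchar ρ' hlow' hne
    by_cases hg : c' * x' a ^ 2 = c2 * x2 a ^ 2
    · rw [proj_zProj ρ' hg] at hne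
      refine hne (proj_delta_of_not_singleton h2 hlow hlow' hY (fun i hi => ?_) h1 hx1 ?_ ?_ hw)
      · have hb : b ∈ ({i} : Finset (Fin n)) := hi ▸ by simp
        have ha : a ∈ ({i} : Finset (Fin n)) := hi ▸ by simp
        exact hba ((Finset.mem_singleton.1 hb).trans (Finset.mem_singleton.1 ha).symm)
      · exact fun h => hγ (by rw [← hg, h, zero_mul])
      · exact fun h => hγ (by rw [← hg, h]; simp)
    · refine hne ?_
      have hm := eigProj_mem (zFam_add ρ' a) (zchar (c2 * x2 a ^ 2)) (delta ρ ρ' Y (sigmaJ F ({b} ∪ {a})) w)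
      rw [← proj_zProj ρ' (a := a) rfl, eigProj_of_ne (fun h => hg (zchar_injective h)) hm, map_zero]
  have hd : ({b} : Finset (Fin n)) ∪ {a} = {b} ∪ {a} := rfl
  rw [sigmaJ_union (by simpa using hba), delta_mul, map_add,
    zProj_delta h2 hlow hlow' hY hγ (by simpa using Ne.symm hba), zero_add,
    zProj_comm ρ' (sigmaJ_fixes (by simpa using Ne.symm hba))] at hpair
  have hz := congrArg (ρ' (sigmaJ F ({b} : Finset (Fin n)))⁻¹) hpair
  rw [← rep_mul, inv_mul_cancel, map_one, Module.End.one_apply, map_zero] at hz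
  rw [← proj_zProj ρ' (a := a) rfl, hz, map_zero]

theorem delta_fixed (hn : 2 ≤ n) {c1 : F} {x1 : Fin n → F} (h1 : c1 ≠ 0) (hx1 : x1 ≠ 0) {v : V}
    (hv : v ∈ qSpace ρ c1 x1) (g : Matrix.symplecticGroup (Fin n) F) (S : symMat F n) :
    ρ' (siegelU S) (delta ρ ρ' Y g v) = delta ρ ρ' Y g v := by
  obtain ⟨p, J, p', hp, hp', rfl⟩ := exists_cell g
  rw [hY.delta_eq hp hp']
  obtain ⟨A, T, rfl⟩ := exists_of_inP hp'
  rw [rep_mul, (mem_qSpace ρ).1 hv T, map_smul, map_smul, map_smul, map_smul]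
  congr 1
  have hx : A⁻¹.valᵀ *ᵥ x1 ≠ 0 := fun h => hx1 (inv_tr_mulVec_injective A (by simpa using h))
  have hfix : ∀ U, ρ' (siegelU U) (delta ρ ρ' Y (sigmaJ F J) (ρ (siegelM A) v)) =
      delta ρ ρ' Y (sigmaJ F J) (ρ (siegelM A) v) := fun U => mem_fixed_of_proj ρ' (fun φ hφ => by
    by_contra hne
    obtain ⟨c2, x2, rfl⟩ := exists_qchar ρ' hlow' hne
    obtain ⟨hc2, hx2⟩ := ne_zero_of_qchar hφ
    exact hne (proj_delta h2 hlow hlow' hY hn J h1 hx hc2 hx2 (siegelM_mem ρ hv A))) U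
  obtain ⟨B, R, rfl⟩ := exists_of_inP hp
  rw [rep_mul ρ' (siegelM B), hfix R]
  have e : siegelU S * siegelM B = siegelM B * siegelU (congMat B⁻¹.val S) := by
    rw [siegelM_mul_U]
    congr 2
    refine Subtype.ext ?_
    show S.1 = B.val * (B⁻¹.val * S.1 * B⁻¹.valᵀ) * B.valᵀ
    rw [← mul_assoc, ← mul_assoc, B.mul_inv, one_mul, mul_assoc, ← transpose_mul, B.mul_inv, transpose_one, mul_one]
  rw [← rep_mul ρ', e, rep_mul, hfix]

end Maps

end Cfsg.Agent.Lib.SpWeil
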