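import Mathlib
import Cfsg.Agent.Lib.MinDegree.WeilRep
import Cfsg.Agent.Lib.SpWeil.Seed

/-!
The Weil representation, its two pieces and their twists by an outer similitude.
-/

open Classical

set_option autoImplicit false
set_option linter.unusedSectionVars false

namespace Cfsg.Agent.Lib.SpWeil

open Matrix Module Cfsg.Agent.Lib.MinDegree

variable {F : Type*} [Field F] [Fintype F] {n : ℕ} (h2 : (2 : F) ≠ 0)

/-- The operators of the whole Weil representation. -/
noncomputable def fullOp (g : Matrix.symplecticGroup (Fin n) F) : Module.End ℂ (WFun F n) :=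
  weilFactor h2 g • weilT h2 g

theorem fullOp_injective (g : Matrix.symplecticGroup (Fin n) F) : Function.Injective (fullOp h2 g) := fun a b e => by
  simp only [fullOp, LinearMap.smul_apply] at e
  exact weilT_injective h2 g (smul_right_injective _ (weilFactor_ne_zero h2 g) e)

theorem fullOp_mul (g h : Matrix.symplecticGroup (Fin n) F) : fullOp h2 g * fullOp h2 h = fullOp h2 (g * h) := by
  obtain ⟨c, hc0, hc⟩ := weilT_mul h2 g h
  have ho : weilOddT h2 g * weilOddT h2 h = c • weilOddT h2 (g * h) :=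
    LinearMap.ext fun f => Subtype.ext (LinearMap.congr_fun hc f.1)
  have he : weilEvenT h2 g * weilEvenT h2 h = c • weilEvenT h2 (g * h) :=
    LinearMap.ext fun f => Subtype.ext (LinearMap.congr_fun hc f.1)
  have hd : finrank ℂ (evenSub F n) = finrank ℂ (oddSub F n) + 1 := by
    have := finrank_evenSub (n := n) h2
    have := finrank_oddSub (n := n) h2
    omega
  have hfac : weilFactor h2 g * weilFactor h2 h * c = weilFactor h2 (g * h) := by
    rw [weilFactor, weilFactor, weilFactor, div_mul_div_comm, ← map_mul, ← map_mul, ho, he, LinearMap.det_smul,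
      LinearMap.det_smul, hd, pow_succ]
    have := det_ne_zero_of_injective (T := weilEvenT h2 (g * h))
      fun _ _ e => Subtype.ext (weilT_injective h2 (g * h) (congrArg Subtype.val e))
    field_simp
  rw [fullOp, fullOp, fullOp, smul_mul_smul_comm, hc, smul_smul, hfac]

theorem fullOp_one : fullOp h2 (1 : Matrix.symplecticGroup (Fin n) F) = 1 := by
  refine LinearMap.ext fun f => fullOp_injective h2 1 ?_
  rw [← Module.End.mul_apply, fullOp_mul, one_mul, Module.End.one_apply]

theorem fullOp_eq_smul (g : Matrix.symplecticGroup (Fin n) F) {T : Module.End ℂ (WFun F n)}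
    (hT : ∀ w, T * heisOp w = heisOp (g.1 *ᵥ w) * T) : ∃ c : ℂ, T = c • fullOp h2 g := by
  obtain ⟨c, rfl⟩ := intertwiner_unique h2 g (weilT_injective h2 g) (weilT_heisOp h2 g) hT
  refine ⟨c * (weilFactor h2 g)⁻¹, ?_⟩
  rw [fullOp, smul_smul, mul_assoc, inv_mul_cancel₀ (weilFactor_ne_zero h2 g), mul_one]

/-- The even Weil representation. -/
noncomputable def evenRep : Representation ℂ (Matrix.symplecticGroup (Fin n) F) (evenSub F n) where
  toFun g := weilFactor h2 g • weilEvenT h2 g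
  map_one' := LinearMap.ext fun f => Subtype.ext (LinearMap.congr_fun (fullOp_one h2) f.1)
  map_mul' g h := LinearMap.ext fun f => Subtype.ext (LinearMap.congr_fun (fullOp_mul h2 g h).symm f.1)

theorem evenRep_val (g : Matrix.symplecticGroup (Fin n) F) (f : evenSub F n) :
    (evenRep h2 g f).1 = fullOp h2 g f.1 := rfl

theorem weilRep_val (g : Matrix.symplecticGroup (Fin n) F) (f : oddSub F n) :
    (weilRep h2 g f).1 = fullOp h2 g f.1 := rfl

variable (F) in
/-- An even delta function. -/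
noncomputable def evDelta (y : Fin n → F) : WFun F n := Pi.single y 1 + Pi.single (-y) 1

variable (F n) in
/-- The Fourier transform. -/
noncomputable def fourierOp : Module.End ℂ (WFun F n) where
  toFun f x := ∑ y, psi0 F (x ⬝ᵥ y) * f y
  map_add' f g := by funext x; simp [mul_add, Finset.sum_add_distrib]
  map_smul' c f := by funext x; simp [mul_left_comm, Finset.mul_sum]

include h2 in
theorem fourierOp_heisOp (v : PVec F n) :
    fourierOp F n * heisOp v = heisOp ((sigmaJ F (Finset.univ : Finset (Fin n))).1 *ᵥ v) * fourierOp F n := by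
  refine LinearMap.ext fun f => funext fun x => ?_
  have hI : indMat F (Finset.univ : Finset (Fin n)) = 1 := by simp [indMat]
  have hv : (sigmaJ F (Finset.univ : Finset (Fin n))).1 *ᵥ v = Sum.elim (v ∘ Sum.inr) (-(v ∘ Sum.inl)) := by
    rw [sigmaJ_val, hI, sub_self, fromBlocks_mulVec]
    simp [neg_mulVec]
  rw [Module.End.mul_apply, Module.End.mul_apply, hv, heisOp_apply]
  show ∑ y, psi0 F (x ⬝ᵥ y) * heisOp v f y = _ * ∑ y, psi0 F (_ ⬝ᵥ y) * f y
  rw [Finset.mul_sum]
  refine Fintype.sum_equiv (Equiv.addRight (v ∘ Sum.inl)) _ _ fun y => ?_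
  rw [heisOp_apply, Equiv.coe_addRight, ← mul_assoc, ← mul_assoc, ← AddChar.map_add_eq_mul, ← AddChar.map_add_eq_mul]
  congr 2
  simp only [Sum.elim_comp_inl, Sum.elim_comp_inr, neg_dotProduct, dotProduct_neg, add_dotProduct, dotProduct_add]
  rw [dotProduct_comm (v ∘ Sum.inl) x, dotProduct_comm (v ∘ Sum.inl) (v ∘ Sum.inr)]
  field_simp
  ring

theorem eq_or_eq_neg_of_sq (h2 : (2 : F) ≠ 0) {x y : Fin n → F}
    (h : ∀ u : Fin n → F, (u ⬝ᵥ x) ^ 2 = (u ⬝ᵥ y) ^ 2) : x = y ∨ x = -y := by
  by_contra hne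
  push Not at hne
  obtain ⟨i, hi⟩ := Function.ne_iff.1 hne.1
  obtain ⟨j, hj⟩ := Function.ne_iff.1 hne.2
  have hi2 := h (Pi.single i 1)
  have hj2 := h (Pi.single j 1)
  have hij := h (Pi.single i 1 + Pi.single j 1)
  simp only [add_dotProduct, single_dotProduct, one_mul] at hi2 hj2 hij
  have ei : x i = -y i := (sq_eq_sq_iff_eq_or_eq_neg.1 hi2).resolve_left hi
  have ej : x j = y j := (sq_eq_sq_iff_eq_or_eq_neg.1 hj2).resolve_right fun e => hj (by rw [Pi.neg_apply, e])
  rw [ei, ej] at hij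
  have h4 : (2 : F) * 2 * (y i * y j) = 0 := by linear_combination -hij
  rcases mul_eq_zero.1 ((mul_eq_zero.1 h4).resolve_left (mul_ne_zero h2 h2)) with e | e
  · exact hi (by rw [ei, e, neg_zero])
  · exact hj (by rw [ej, Pi.neg_apply, e, neg_zero])

theorem evenRep_irreducible : (evenRep (n := n) h2).IsIrreducible := by
  haveI := Fintype.ofFinite (symMat F n)
  have hpos : 0 < finrank ℂ (evenSub F n) := by have := finrank_evenSub (n := n) h2; omega
  haveI : Nontrivial (evenSub F n) := Module.nontrivial_of_finrank_pos (R := ℂ) hpos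
  haveI : Nontrivial (Subrepresentation (evenRep (n := n) h2)) :=
    ⟨⊥, ⊤, fun h => bot_ne_top (α := Submodule ℂ (evenSub F n)) (congrArg Subrepresentation.toSubmodule h)⟩
  refine ⟨fun S => or_iff_not_imp_left.2 fun hS => ?_⟩
  obtain ⟨f, hf, hf0⟩ := Submodule.exists_mem_ne_zero_of_ne_bot
    (fun h => hS (Subrepresentation.toSubmodule_injective h) : S.toSubmodule ≠ ⊥)
  obtain ⟨x0, hx0⟩ : ∃ x, f.1 x ≠ 0 := Function.ne_iff.1 fun h => hf0 (Subtype.ext h)
  set W : Submodule ℂ (WFun F n) := S.toSubmodule.map (evenSub F n).subtype with hW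
  have hev : ∀ {w}, w ∈ W → ∀ x, w (-x) = w x := fun {w} hw x => by
    obtain ⟨w, -, rfl⟩ := hw
    exact congrFun (parity_of_mem_even w.2) x
  have hmem : ∀ {g : Matrix.symplecticGroup (Fin n) F} {T : Module.End ℂ (WFun F n)},
      (∀ w, T * heisOp w = heisOp (g.1 *ᵥ w) * T) → ∀ {w}, w ∈ W → T w ∈ W := fun {g T} hT {w} hw => by
    obtain ⟨c, rfl⟩ := fullOp_eq_smul h2 g hT
    obtain ⟨w, hw, rfl⟩ := hw
    exact W.smul_mem c ⟨evenRep h2 g w, S.apply_mem_toSubmodule g hw, rfl⟩
  have havg : ∀ {w}, w ∈ W → ∀ y, w y ≠ 0 → evDelta F y ∈ W := by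
    intro w hw y hy
    let g : WFun F n := ∑ T : symMat F n, psi0 F ((2 : F)⁻¹ * (y ⬝ᵥ (T.1 *ᵥ y))) • phaseOp T w
    have hg : g ∈ W := Submodule.sum_mem _ fun T _ =>
      Submodule.smul_mem _ _ (hmem (g := siegelL T) (phaseOp_heisOp h2 T) hw)
    have hgval : ∀ x, g x = (∑ T : symMat F n,
        psi0 F ((2 : F)⁻¹ * (y ⬝ᵥ (T.1 *ᵥ y)) + -((2 : F)⁻¹ * (x ⬝ᵥ (T.1 *ᵥ x))))) * w x := fun x => by
      simp only [g, Finset.sum_apply, Pi.smul_apply, smul_eq_mul, Finset.sum_mul]
      refine Finset.sum_congr rfl fun T _ => ?_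
      show _ * (psi0 F _ * w x) = _
      rw [AddChar.map_add_eq_mul, mul_assoc]
    have hzero : ∀ x, x ≠ y → x ≠ -y → g x = 0 := by
      intro x hxa hxb
      rw [hgval]
      let φ : AddChar (symMat F n) ℂ := (psi0 F).compAddMonoidHom (AddMonoidHom.mk'
        (fun T : symMat F n => (2 : F)⁻¹ * (y ⬝ᵥ (T.1 *ᵥ y)) + -((2 : F)⁻¹ * (x ⬝ᵥ (T.1 *ᵥ x))))
        fun A B => by simp only [Submodule.coe_add, add_mulVec, dotProduct_add]; ring)
      have hφ : φ ≠ 0 := by
        intro h
        suffices hu : ∀ u : Fin n → F, (u ⬝ᵥ x) ^ 2 = (u ⬝ᵥ y) ^ 2 by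
          rcases eq_or_eq_neg_of_sq h2 hu with e | e
          · exact hxa e
          · exact hxb e
        intro u
        refine (mul_left_cancel₀ (inv_ne_zero h2) (eq_of_psi0 fun t => ?_)).symm
        have h1 : φ (t • sqVec u) = 1 := by rw [h]; rfl
        have h1' : psi0 F ((2 : F)⁻¹ * (y ⬝ᵥ ((t • sqVec u : symMat F n).1 *ᵥ y)) +
            -((2 : F)⁻¹ * (x ⬝ᵥ ((t • sqVec u : symMat F n).1 *ᵥ x)))) = 1 := h1
        rw [qform_sq, qform_sq, AddChar.map_add_eq_mul] at h1'
        have h3 := congrArg (fun z => z * psi0 F (t * ((2 : F)⁻¹ * (u ⬝ᵥ x) ^ 2))) h1'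
        simp only [one_mul, ← AddChar.map_add_eq_mul, neg_add_cancel_right] at h3
        exact h3
      have hs := AddChar.sum_eq_ite φ
      rw [if_neg hφ] at hs
      rw [show (∑ T : symMat F n, psi0 F ((2 : F)⁻¹ * (y ⬝ᵥ (T.1 *ᵥ y)) + -((2 : F)⁻¹ * (x ⬝ᵥ (T.1 *ᵥ x))))) = 0 from hs,
        zero_mul]
    have hval : g y = (Fintype.card (symMat F n) : ℂ) * w y := by
      rw [hgval]
      simp [AddChar.map_zero_eq_one, Finset.card_univ]
    set C := (Fintype.card (symMat F n) : ℂ) * w y with hC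
    have hC0 : C ≠ 0 := mul_ne_zero (Nat.cast_ne_zero.2 Fintype.card_ne_zero) hy
    have he : evDelta F y = ((if y = -y then 2 else 1) * C⁻¹) • g := by
      funext x
      rw [Pi.smul_apply, smul_eq_mul]
      simp only [evDelta, Pi.add_apply, Pi.single_apply]
      by_cases h1 : x = y
      · subst h1
        rw [hval, mul_assoc, inv_mul_cancel₀ hC0]
        by_cases h3 : x = -x
        · simp only [if_pos h3, if_true]; norm_num
        · simp only [if_neg h3, if_true]; norm_num
      · by_cases h3 : x = -y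
        · subst h3
          have h4 : ¬ y = -y := fun h => h1 h.symm
          rw [hev hg, hval, if_neg h1, if_pos rfl, if_neg h4, one_mul, inv_mul_cancel₀ hC0, zero_add]
        · rw [if_neg h1, if_neg h3, hzero x h1 h3, mul_zero, add_zero]
    rw [he]
    exact W.smul_mem _ hg
  have hF : ∀ {w}, w ∈ W → fourierOp F n w ∈ W := fun {w} hw => hmem (fourierOp_heisOp h2) hw
  have hd0 : evDelta F x0 ∈ W := havg ⟨f, hf, rfl⟩ x0 hx0
  have hzero : evDelta F (0 : Fin n → F) ∈ W := by
    refine havg (hF hd0) 0 ?_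
    show ∑ y, psi0 F (0 ⬝ᵥ y) * evDelta F x0 y ≠ 0
    simp [evDelta, Finset.sum_add_distrib, Pi.single_apply]
  have hall : ∀ y, evDelta F y ∈ W := fun y => by
    refine havg (hF hzero) y ?_
    show ∑ z, psi0 F (y ⬝ᵥ z) * evDelta F (0 : Fin n → F) z ≠ 0
    simp [evDelta, Pi.single_apply, Finset.sum_add_distrib, mul_add, AddChar.map_zero_eq_one]
  refine Subrepresentation.toSubmodule_injective (eq_top_iff.2 fun k _ => ?_ : S.toSubmodule = ⊤)
  have hk : k.1 = ∑ y : Fin n → F, (k.1 y / 2) • evDelta F y := by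
    funext x
    simp only [Finset.sum_apply, Pi.smul_apply, smul_eq_mul, evDelta, Pi.add_apply,
      Pi.single_apply, mul_add, Finset.sum_add_distrib, mul_ite, mul_one, mul_zero]
    rw [Finset.sum_ite_eq Finset.univ x (fun y => k.1 y / 2), if_pos (Finset.mem_univ _),
      Finset.sum_congr rfl fun y _ => show (if x = -y then k.1 y / 2 else 0) = if y = -x then k.1 y / 2 else 0 from
        if_congr ⟨fun h => by rw [h, neg_neg], fun h => by rw [h, neg_neg]⟩ rfl rfl,
      Finset.sum_ite_eq' Finset.univ (-x) (fun y => k.1 y / 2), if_pos (Finset.mem_univ _),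
      show k.1 (-x) = k.1 x from congrFun (parity_of_mem_even k.2) x]
    ring
  have hkW : k.1 ∈ W := by rw [hk]; exact Submodule.sum_mem _ fun y _ => Submodule.smul_mem _ _ (hall y)
  obtain ⟨k', hk', e⟩ := hkW
  rwa [← Subtype.ext e]

/-- The similitude. -/
noncomputable def simMat (ν : F) : Matrix (Fin n ⊕ Fin n) (Fin n ⊕ Fin n) F :=
  fromBlocks (ν • (1 : Matrix (Fin n) (Fin n) F)) 0 0 1

omit [Fintype F] in
theorem simMat_mul (ν μ : F) : simMat (n := n) ν * simMat μ = simMat (ν * μ) := by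
  simp [simMat, fromBlocks_multiply, smul_smul, mul_comm]

omit [Fintype F] in
theorem simMat_one : simMat (n := n) (1 : F) = 1 := by simp [simMat]

omit [Fintype F] in
theorem simMat_form (ν : F) : simMat (n := n) ν * Matrix.J (Fin n) F * (simMat ν)ᵀ = ν • Matrix.J (Fin n) F := by
  simp [simMat, Matrix.J, fromBlocks_transpose, fromBlocks_multiply, fromBlocks_smul, transpose_smul]

/-- Conjugation by the similitude. -/
noncomputable def twist {ν : F} (hν : ν ≠ 0) :
    Matrix.symplecticGroup (Fin n) F →* Matrix.symplecticGroup (Fin n) F where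
  toFun g := ⟨simMat ν * g.1 * simMat ν⁻¹, by
    rw [SymplecticGroup.mem_iff]
    have hg : g.1 * Matrix.J (Fin n) F * g.1ᵀ = Matrix.J (Fin n) F := SymplecticGroup.mem_iff.1 g.2
    calc simMat ν * g.1 * simMat ν⁻¹ * Matrix.J (Fin n) F * (simMat ν * g.1 * simMat ν⁻¹)ᵀ
        = simMat ν * g.1 * (simMat ν⁻¹ * Matrix.J (Fin n) F * (simMat ν⁻¹)ᵀ) * g.1ᵀ * (simMat ν)ᵀ := by
          simp only [transpose_mul, mul_assoc]
      _ = Matrix.J (Fin n) F := by
          rw [simMat_form, mul_smul_comm, smul_mul_assoc, smul_mul_assoc, mul_assoc (simMat ν), mul_assoc (simMat ν),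
            hg, simMat_form, smul_smul, inv_mul_cancel₀ hν, one_smul]⟩
  map_one' := Subtype.ext (by simp [simMat_mul, mul_inv_cancel₀ hν, simMat_one])
  map_mul' g h := Subtype.ext (by
    show simMat ν * (g.1 * h.1) * simMat ν⁻¹ = simMat ν * g.1 * simMat ν⁻¹ * (simMat ν * h.1 * simMat ν⁻¹)
    calc simMat ν * (g.1 * h.1) * simMat ν⁻¹ = simMat ν * g.1 * (simMat ν⁻¹ * simMat ν) * h.1 * simMat ν⁻¹ := by
          rw [simMat_mul, inv_mul_cancel₀ hν, simMat_one, mul_one, mul_assoc (simMat ν) g.1 h.1]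
      _ = _ := by simp only [mul_assoc])

theorem twist_surjective {ν : F} (hν : ν ≠ 0) : Function.Surjective (twist (n := n) hν) := fun g => by
  refine ⟨twist (inv_ne_zero hν) g, Subtype.ext ?_⟩
  show simMat ν * (simMat ν⁻¹ * g.1 * simMat ν⁻¹⁻¹) * simMat ν⁻¹ = g.1
  rw [inv_inv, ← mul_assoc, ← mul_assoc, simMat_mul, mul_inv_cancel₀ hν, simMat_one, one_mul, mul_assoc, simMat_mul,
    mul_inv_cancel₀ hν, simMat_one, mul_one]

theorem twist_siegelL {ν : F} (hν : ν ≠ 0) (S : symMat F n) :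
    twist hν (siegelL S) = siegelL (ν⁻¹ • S) := by
  refine Subtype.ext ?_
  show simMat ν * fromBlocks 1 0 S.1 1 * simMat ν⁻¹ = fromBlocks 1 0 (ν⁻¹ • S.1) 1
  simp [simMat, fromBlocks_multiply, smul_smul, mul_inv_cancel₀ hν, inv_mul_cancel₀ hν]

theorem irreducible_twist {V : Type*} [AddCommGroup V] [Module ℂ V]
    {ρ : Representation ℂ (Matrix.symplecticGroup (Fin n) F) V} (hρ : ρ.IsIrreducible) {ν : F} (hν : ν ≠ 0) :
    Representation.IsIrreducible (ρ.comp (twist hν) : Representation ℂ (Matrix.symplecticGroup (Fin n) F) V) := by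
  haveI := hρ
  let e : Subrepresentation (ρ.comp (twist hν) : Representation ℂ (Matrix.symplecticGroup (Fin n) F) V) ≃o
      Subrepresentation ρ :=
    { toFun := fun S => ⟨S.toSubmodule, fun g v hv => by
        obtain ⟨k, rfl⟩ := twist_surjective hν g
        exact S.apply_mem_toSubmodule k hv⟩
      invFun := fun S => ⟨S.toSubmodule, fun g v hv => S.apply_mem_toSubmodule (twist hν g) hv⟩
      left_inv := fun _ => rfl
      right_inv := fun _ => rfl
      map_rel_iff' := Iff.rfl }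
  exact e.isSimpleOrder

/-- The scalar of a lower radical element. -/
noncomputable def lamL (S : symMat F n) : ℂ := fullOp h2 (siegelL S) (fun _ => 1) 0

theorem phaseOp_one_zero (S : symMat F n) : phaseOp S (fun _ => (1 : ℂ)) 0 = 1 := by
  show psi0 F (-((2 : F)⁻¹ * ((0 : Fin n → F) ⬝ᵥ (S.1 *ᵥ 0)))) * 1 = 1
  simp [AddChar.map_zero_eq_one]

theorem fullOp_siegelL (S : symMat F n) : fullOp h2 (siegelL S) = lamL h2 S • phaseOp S := by
  obtain ⟨c, hc⟩ := fullOp_eq_smul h2 (siegelL S) (phaseOp_heisOp h2 S)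
  have h1 : (1 : ℂ) = c * lamL h2 S := by
    conv_lhs => rw [← phaseOp_one_zero S, hc]
    rfl
  rw [hc, smul_smul, mul_comm, ← h1, one_smul]

theorem lamL_add (S T : symMat F n) : lamL h2 (S + T) = lamL h2 S * lamL h2 T := by
  have e : siegelL (S + T) = siegelL S * siegelL T := Subtype.ext (by
    show fromBlocks 1 0 (S.1 + T.1) 1 = fromBlocks 1 0 S.1 1 * fromBlocks 1 0 T.1 1
    rw [fromBlocks_multiply]; simp)
  rw [lamL, e, ← fullOp_mul, Module.End.mul_apply, fullOp_siegelL h2 T, LinearMap.smul_apply, map_smul, Pi.smul_apply,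
    fullOp_siegelL h2 S, LinearMap.smul_apply, Pi.smul_apply]
  show lamL h2 T * (lamL h2 S * (psi0 F _ * (psi0 F _ * 1))) = _
  simp [AddChar.map_zero_eq_one, mul_comm]

theorem lamL_cong (B : GL (Fin n) F) (S : symMat F n) : lamL h2 (congMat B.val S) = lamL h2 S := by
  let A : GL (Fin n) F := ⟨B⁻¹.valᵀ, B.valᵀ, by rw [← transpose_mul, B.mul_inv, transpose_one],
    by rw [← transpose_mul, B.inv_mul, transpose_one]⟩
  have e : siegelM A * siegelL S = siegelL (congMat B.val S) * siegelM A := by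
    refine Subtype.ext ?_
    show fromBlocks B⁻¹.valᵀ 0 0 (B.valᵀ)ᵀ * fromBlocks 1 0 S.1 1 =
      fromBlocks 1 0 (B.val * S.1 * B.valᵀ) 1 * fromBlocks B⁻¹.valᵀ 0 0 (B.valᵀ)ᵀ
    rw [fromBlocks_multiply, fromBlocks_multiply, transpose_transpose]
    simp [mul_assoc, ← transpose_mul, B.inv_mul, -Matrix.coe_units_inv]
  have h := congrArg (fun g => fullOp h2 g (fun _ => (1 : ℂ)) 0) e
  simp only [← fullOp_mul, Module.End.mul_apply] at h
  obtain ⟨c, hc⟩ := fullOp_eq_smul h2 (siegelM A) (substOp_heisOp A)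
  have hone : substOp A (fun _ => (1 : ℂ)) = fun _ => 1 := rfl
  have hc0 : c ≠ 0 := fun h0 => by
    have := congrFun (LinearMap.congr_fun hc fun _ => (1 : ℂ)) 0
    rw [h0, zero_smul, LinearMap.zero_apply, hone] at this
    exact one_ne_zero this
  have hm : fullOp h2 (siegelM A) = c⁻¹ • substOp A := by rw [hc, smul_smul, inv_mul_cancel₀ hc0, one_smul]
  rw [hm, LinearMap.smul_apply, LinearMap.smul_apply, hone, map_smul, Pi.smul_apply, Pi.smul_apply] at h
  have hsub : substOp A (fullOp h2 (siegelL S) fun _ => 1) 0 = lamL h2 S := by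
    show fullOp h2 (siegelL S) (fun _ => 1) (A⁻¹.val *ᵥ 0) = _
    rw [mulVec_zero]; rfl
  rw [hsub] at h
  exact (mul_left_cancel₀ (inv_ne_zero hc0) h).symm

theorem lamL_sq_single {a b : Fin n} (hab : a ≠ b) (t : F) :
    lamL h2 (t • sqVec (Pi.single b 1)) = 1 := by
  have h0 : lamL h2 (0 : symMat F n) = 1 := by
    show fullOp h2 (siegelL (0 : symMat F n)) (fun _ => (1 : ℂ)) 0 = 1
    rw [show siegelL (0 : symMat F n) = 1 from Subtype.ext (by simp [siegelL]), fullOp_one]
    rfl
  set ea : Fin n → F := Pi.single a 1 with hea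
  set eb : Fin n → F := Pi.single b 1 with heb
  have hne : ∀ S : symMat F n, lamL h2 S ≠ 0 := fun S h => by
    have := lamL_add h2 S (-S)
    rw [add_neg_cancel, h0, h, zero_mul] at this
    exact one_ne_zero this
  set d : Fin n → F := fun i => if i = b then -1 else 1 with hd
  let D : GL (Fin n) F := ⟨diagonal d, diagonal d,
    by rw [diagonal_mul_diagonal, ← diagonal_one]; exact congrArg diagonal (funext fun i => by by_cases h : i = b <;> simp [hd, h]),
    by rw [diagonal_mul_diagonal, ← diagonal_one]; exact congrArg diagonal (funext fun i => by by_cases h : i = b <;> simp [hd, h])⟩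
  have hDa : D.val *ᵥ ea = ea := by
    funext i
    show (diagonal d *ᵥ ea) i = _
    rw [mulVec_diagonal]
    by_cases h : i = b
    · subst h; simp [hea, hd, Ne.symm hab]
    · simp [hd, h]
  have hDb : D.val *ᵥ eb = -eb := by
    funext i
    show (diagonal d *ᵥ eb) i = _
    rw [mulVec_diagonal]
    by_cases h : i = b
    · subst h; simp [heb, hd]
    · simp [hd, heb, h]
  have hcr : ∀ s : F, lamL h2 (s • crossVec ea eb) = 1 := fun s => by
    have h := lamL_cong h2 D ((s / 2) • crossVec ea eb)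
    have e : congMat D.val ((s / 2) • crossVec ea eb) = -((s / 2) • crossVec ea eb) := by
      have hc : congMat D.val (crossVec ea eb) = -crossVec ea eb := by
        refine Subtype.ext ?_
        show D.val * (vecMulVec ea eb + vecMulVec eb ea) * D.valᵀ = -(vecMulVec ea eb + vecMulVec eb ea)
        rw [mul_add, add_mul, mul_vecMulVec, mul_vecMulVec, vecMulVec_mul, vecMulVec_mul, vecMul_transpose,
          vecMul_transpose, hDa, hDb, neg_add, vecMulVec_neg, neg_vecMulVec]
      rw [map_smul, hc]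
      module
    rw [e] at h
    have h' := lamL_add h2 ((s / 2) • crossVec ea eb) (-((s / 2) • crossVec ea eb))
    rw [add_neg_cancel, h0, h, ← lamL_add, ← add_smul] at h'
    rw [← show s / 2 + s / 2 = s by field_simp; ring, ← h']
  have hba : ea ⬝ᵥ eb = 0 := by simp [hea, heb, Ne.symm hab]
  have h := lamL_cong h2 (shearGL eb ea hba) (t • sqVec ea)
  have e : congMat (shearGL eb ea hba).val (t • sqVec ea) =
      t • sqVec ea + (t • sqVec eb + t • crossVec ea eb) := by
    rw [map_smul, congMat_sqVec, shearGL_mulVec, ← smul_add, ← smul_add]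
    congr 1
    refine Subtype.ext ?_
    simp [sqVec, crossVec, hea, add_vecMulVec, vecMulVec_add]
    abel
  rw [e, lamL_add, lamL_add, hcr, mul_one] at h
  exact mul_eq_left₀ (hne _) |>.1 h

theorem phase_eq_of_twist (hn : 2 ≤ n) {ν : F} (hν : ν ≠ 0) (hsq : ¬IsSquare ν) (b : Fin n)
    {f : WFun F n} (hf : f ≠ 0) : ∃ t : F, fullOp h2 (siegelL (ν⁻¹ • t • sqVec (Pi.single b 1))) f ≠
      (lamL h2 (t • sqVec (Pi.single b (1 : F))) * psi0 F (-((2 : F)⁻¹ * t))) • f := by
  haveI : Nontrivial (Fin n) := Fin.nontrivial_iff_two_le.2 hn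
  obtain ⟨a, hab⟩ := exists_ne b
  obtain ⟨x, hx⟩ : ∃ x, f x ≠ 0 := Function.ne_iff.1 hf
  by_contra h
  push Not at h
  refine hsq ⟨x b, ?_⟩
  have key : (2 : F)⁻¹ * (ν⁻¹ * x b ^ 2) = (2 : F)⁻¹ * 1 := eq_of_psi0 fun t => by
    have ht := congrFun (h (-t)) x
    rw [fullOp_siegelL, smul_smul, lamL_sq_single h2 hab, lamL_sq_single h2 hab, one_smul, one_mul, Pi.smul_apply,
      smul_eq_mul] at ht
    have e : ∀ r : F, (phaseOp (r • sqVec (Pi.single b (1 : F))) f) x = psi0 F (r * -((2 : F)⁻¹ * x b ^ 2)) * f x := fun r => by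
      show psi0 F (-((2 : F)⁻¹ * (x ⬝ᵥ ((r • sqVec (Pi.single b (1 : F)) : symMat F n).1 *ᵥ x)))) * f x = _
      rw [qform_sq, single_dotProduct, one_mul, mul_neg]
    rw [e] at ht
    calc psi0 F (t * ((2 : F)⁻¹ * (ν⁻¹ * x b ^ 2))) = psi0 F (ν⁻¹ * -t * -((2 : F)⁻¹ * x b ^ 2)) := by congr 1; ring
      _ = psi0 F (-((2 : F)⁻¹ * -t)) := mul_right_cancel₀ hx ht
      _ = psi0 F (t * ((2 : F)⁻¹ * 1)) := by congr 1; ring
  have := mul_left_cancel₀ (inv_ne_zero h2) key
  field_simp at this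
  rw [← this]; ring

end Cfsg.Agent.Lib.SpWeil
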