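import Mathlib
import Cfsg.Agent.Lib.SpWeil.Delta

/-!
Two irreducible representations with only rank-one characters, a common character and the same central scalar
are isomorphic.
-/

open Classical

set_option autoImplicit false
set_option linter.unusedSectionVars false

namespace Cfsg.Agent.Lib.SpWeil

open Matrix Cfsg.Agent.Lib.MinDegree

variable {F : Type*} [Field F] [Fintype F] {n : ℕ}
  {V : Type*} [AddCommGroup V] [Module ℂ V] {W : Type*} [AddCommGroup W] [Module ℂ W]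
  {ρ : Representation ℂ (Matrix.symplecticGroup (Fin n) F) V}
  {ρ' : Representation ℂ (Matrix.symplecticGroup (Fin n) F) W}
  [Fintype (symMat F n)] {c : F} {a : Fin n} {X : V →ₗ[ℂ] W}

variable (ρ ρ') in
/-- The average over the Levi factor. -/
noncomputable def avgY (X : V →ₗ[ℂ] W) : V →ₗ[ℂ] W :=
  ∑ A : GL (Fin n) F, ρ' (siegelM A) ∘ₗ X ∘ₗ ρ (siegelM A⁻¹)

theorem avgY_apply (X : V →ₗ[ℂ] W) (v : V) :
    avgY ρ ρ' X v = ∑ A : GL (Fin n) F, ρ' (siegelM A) (X (ρ (siegelM A⁻¹) v)) := by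
  simp [avgY]

theorem isPY_avgY (hX : IsSeed ρ ρ' c a X) : IsPY ρ ρ' (avgY ρ ρ' X) := by
  intro p hp v
  obtain ⟨B, S, rfl⟩ := exists_of_inP hp
  rw [rep_mul, rep_mul, avgY_apply, avgY_apply, map_sum, map_sum]
  refine Fintype.sum_equiv (Equiv.mulLeft B) _ _ fun A => ?_
  rw [Equiv.coe_mulLeft, hX.comm_conj, _root_.mul_inv_rev, siegelM_mul, siegelM_mul, rep_mul ρ', rep_mul ρ]
  congr 3
  rw [← rep_mul ρ (siegelM B⁻¹), ← siegelM_mul, inv_mul_cancel, siegelM_one, map_one, Module.End.one_apply]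

/-- Vectors fixed by the radical. -/
noncomputable def fixU (ρ' : Representation ℂ (Matrix.symplecticGroup (Fin n) F) W) : Submodule ℂ W where
  carrier := {w | ∀ S, ρ' (siegelU S) w = w}
  add_mem' {x y} hx hy S := by rw [map_add, hx S, hy S]
  zero_mem' S := map_zero _
  smul_mem' r x hx S := by rw [map_smul, hx S]

theorem exists_seed (hc : c ≠ 0) (hE : qSpace ρ c (Pi.single a 1) ≠ ⊥) (hE' : qSpace ρ' c (Pi.single a 1) ≠ ⊥) :
    ∃ X, IsSeed ρ ρ' c a X ∧ ∃ v ∈ qSpace ρ c (Pi.single a 1), X v ≠ 0 := by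
  obtain ⟨v, hv, hv0⟩ := Submodule.exists_mem_ne_zero_of_ne_bot hE
  obtain ⟨w, hw, hw0⟩ := Submodule.exists_mem_ne_zero_of_ne_bot hE'
  obtain ⟨f, hf⟩ : ∃ f : V →ₗ[ℂ] ℂ, f v ≠ 0 := by
    by_contra h
    push Not at h
    exact hv0 ((Module.forall_dual_apply_eq_zero_iff ℂ v).1 h)
  refine ⟨(f ∘ₗ eigProj (siegelZ ρ) (qchar c (Pi.single a 1))).smulRight w, ⟨fun u => ?_, fun u => ?_⟩, v, hv, ?_⟩
  · simp only [LinearMap.smulRight_apply, LinearMap.comp_apply]
    rw [eigProj_of_mem _ (eigProj_mem (siegelZ_add ρ) _ u)]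
  · exact Submodule.smul_mem _ _ hw
  · simp only [LinearMap.smulRight_apply, LinearMap.comp_apply]
    rw [eigProj_of_mem _ hv]
    exact smul_ne_zero hf hw0

theorem avgY_apply_ne_zero (h2 : (2 : F) ≠ 0) (hlow : IsLow ρ) (hlow' : IsLow ρ') (hc : c ≠ 0)
    (hX : IsSeed ρ ρ' c a X) {ε : ℂ} (hε : ∀ v, ρ (siegelM (-1)) v = ε • v)
    (hε' : ∀ w, ρ' (siegelM (-1)) w = ε • w) {v : V} (hv : v ∈ qSpace ρ c (Pi.single a 1)) (hXv : X v ≠ 0) :
    avgY ρ ρ' X v ≠ 0 := by
  set s := (Finset.univ : Finset (GL (Fin n) F)).filter fun A => A.valᵀ *ᵥ Pi.single a 1 = (Pi.single a 1 : Fin n → F) ∨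
    A.valᵀ *ᵥ Pi.single a 1 = -(Pi.single a 1 : Fin n → F) with hs
  have h : avgY ρ ρ' X v = (s.card : ℂ) • X v := by
    rw [avgY_apply, ← Finset.sum_filter_add_sum_filter_not Finset.univ
      (fun A : GL (Fin n) F => A.valᵀ *ᵥ Pi.single a 1 = (Pi.single a 1 : Fin n → F) ∨
        A.valᵀ *ᵥ Pi.single a 1 = -(Pi.single a 1 : Fin n → F)), ← hs]
    have h1 : ∀ A ∈ s, ρ' (siegelM A) (X (ρ (siegelM A⁻¹) v)) = X v := fun A hA => by
      have hA' := (Finset.mem_filter.1 hA).2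
      have hm := siegelM_mem ρ hv A⁻¹
      rw [inv_inv] at hm
      have hm' : ρ (siegelM A⁻¹) v ∈ qSpace ρ c (Pi.single a 1) := by
        rcases hA' with e | e <;> rw [e] at hm
        · exact hm
        · rwa [qSpace, qchar_neg] at hm
      rw [hX.comm_stab h2 hlow hlow' hc hε hε' hA' hm', ← rep_mul ρ, ← siegelM_mul, mul_inv_cancel, siegelM_one, map_one,
        Module.End.one_apply]
    rw [Finset.sum_congr rfl h1, Finset.sum_const, ← Nat.cast_smul_eq_nsmul ℂ, add_eq_left]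
    refine Finset.sum_eq_zero fun A hA => ?_
    have hA' := (Finset.mem_filter.1 hA).2
    have hm := siegelM_mem ρ hv A⁻¹
    rw [inv_inv] at hm
    rw [hX.kills hm fun h => hA' (pm_of_qchar hc h), map_zero]
  rw [h]
  refine smul_ne_zero (Nat.cast_ne_zero.2 (Finset.card_ne_zero.2 ⟨1, ?_⟩)) hXv
  refine Finset.mem_filter.2 ⟨Finset.mem_univ _, Or.inl ?_⟩
  rw [Units.val_one, transpose_one, one_mulVec]

theorem iso_of_low (hn : 2 ≤ n) (h2 : (2 : F) ≠ 0) (hlow : IsLow ρ) (hlow' : IsLow ρ') (hρ : ρ.IsIrreducible)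
    (hρ' : ρ'.IsIrreducible) {ε : ℂ} (hε : ∀ v, ρ (siegelM (-1)) v = ε • v)
    (hε' : ∀ w, ρ' (siegelM (-1)) w = ε • w) (hc : c ≠ 0) (hE : qSpace ρ c (Pi.single a 1) ≠ ⊥)
    (hE' : qSpace ρ' c (Pi.single a 1) ≠ ⊥) :
    ∃ T : V ≃ₗ[ℂ] W, ∀ g v, T (ρ g v) = ρ' g (T v) := by
  obtain ⟨X, hX, v0, hv0, hXv⟩ := exists_seed hc hE hE'
  have hw0 := avgY_apply_ne_zero h2 hlow hlow' hc hX hε hε' hv0 hXv
  set Y := avgY ρ ρ' X with hY
  have hPY : IsPY ρ ρ' Y := isPY_avgY hX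
  have he0 : (Pi.single a 1 : Fin n → F) ≠ 0 := by simp
  have hd : ∀ g, delta ρ ρ' Y g v0 ∈ fixU ρ' := fun g =>
    delta_fixed h2 hlow hlow' hPY hn hc he0 hv0 g
  let K : Submodule ℂ (V × W) := Submodule.span ℂ (Set.range fun g => (ρ g v0, ρ' g (Y v0)))
  have hle : K ≤ (fixU ρ').comap (LinearMap.snd ℂ V W - Y ∘ₗ LinearMap.fst ℂ V W) := by
    rw [Submodule.span_le]
    rintro _ ⟨g, rfl⟩
    exact hd g
  have hinv : ∀ g, ∀ p ∈ K, (ρ g p.1, ρ' g p.2) ∈ K := fun g p hp => by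
    have h : K ≤ K.comap (LinearMap.prodMap (ρ g) (ρ' g)) := by
      rw [Submodule.span_le]
      rintro _ ⟨k, rfl⟩
      refine Submodule.subset_span ⟨g * k, ?_⟩
      show (ρ (g * k) v0, ρ' (g * k) (Y v0)) = (ρ g (ρ k v0), ρ' g (ρ' k (Y v0)))
      rw [rep_mul, rep_mul]
    exact h hp
  have hmem0 : (v0, Y v0) ∈ K := Submodule.subset_span ⟨1, by simp⟩
  have hfst : K.map (LinearMap.fst ℂ V W) = ⊤ := by
    let S : Subrepresentation ρ := ⟨K.map (LinearMap.fst ℂ V W), fun g v hv => by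
      obtain ⟨p, hp, rfl⟩ := hv
      exact ⟨_, hinv g p hp, rfl⟩⟩
    rcases hρ.eq_bot_or_eq_top S with h | h
    · have : v0 ∈ (⊥ : Subrepresentation ρ).toSubmodule := h ▸ (⟨_, hmem0, rfl⟩ : v0 ∈ S.toSubmodule)
      refine absurd (show v0 = 0 from this) fun h0 => hXv ?_
      rw [h0, map_zero]
    · exact congrArg Subrepresentation.toSubmodule h
  have hker : ∀ w, (0, w) ∈ K → w = 0 := by
    let S : Subrepresentation ρ' := ⟨K.comap (LinearMap.inr ℂ V W), fun g w hw => by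
      have := hinv g _ hw
      simpa using this⟩
    rcases hρ'.eq_bot_or_eq_top S with h | h
    · intro w hw
      have hw' : w ∈ S.toSubmodule := hw
      rw [h] at hw'
      exact hw'
    · exfalso
      obtain ⟨w, hw, hw0'⟩ := Submodule.exists_mem_ne_zero_of_ne_bot hE'
      have hwK : w ∈ S.toSubmodule := by rw [h]; trivial
      have hfix : ∀ T, ρ' (siegelU T) w = w := by
        have := hle hwK
        simp only [Submodule.mem_comap, LinearMap.sub_apply, LinearMap.comp_apply, LinearMap.snd_apply,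
          LinearMap.fst_apply, LinearMap.inr_apply, map_zero, sub_zero] at this
        exact this
      obtain ⟨T, hT⟩ := AddChar.ne_zero_iff.1 (qchar_ne_zero hc he0)
      have h1 := (mem_qSpace ρ').1 hw T
      rw [hfix T] at h1
      refine hw0' ?_
      have : (qchar c (Pi.single a 1) T - 1) • w = 0 := by rw [sub_smul, one_smul, ← h1, sub_self]
      exact (smul_eq_zero.1 this).resolve_left (sub_ne_zero.2 hT)
  have hex : ∀ v, ∃ w, (v, w) ∈ K := fun v => by
    obtain ⟨p, hp, rfl⟩ := (hfst ▸ Submodule.mem_top : v ∈ K.map (LinearMap.fst ℂ V W))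
    exact ⟨p.2, hp⟩
  choose f hf using hex
  have huniq : ∀ {v w}, (v, w) ∈ K → w = f v := fun {v w} h => by
    have := K.sub_mem h (hf v)
    rw [Prod.mk_sub_mk, sub_self] at this
    exact sub_eq_zero.1 (hker _ this)
  let T : V →ₗ[ℂ] W :=
    { toFun := f
      map_add' := fun x y => (huniq (K.add_mem (hf x) (hf y))).symm
      map_smul' := fun r x => (huniq (K.smul_mem r (hf x))).symm }
  have hT : ∀ g v, T (ρ g v) = ρ' g (T v) := fun g v => (huniq (hinv g _ (hf v))).symm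
  have hTv0 : T v0 ≠ 0 := by rw [show T v0 = Y v0 from (huniq hmem0).symm]; exact hw0
  have hinj : Function.Injective T := by
    let S : Subrepresentation ρ := ⟨LinearMap.ker T, fun g v hv => by
      rw [LinearMap.mem_ker] at hv ⊢
      rw [hT, hv, map_zero]⟩
    rcases hρ.eq_bot_or_eq_top S with h | h
    · exact LinearMap.ker_eq_bot.1 (congrArg Subrepresentation.toSubmodule h)
    · exact absurd (show v0 ∈ S.toSubmodule by rw [h]; trivial) hTv0
  have hsurj : Function.Surjective T := by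
    let S : Subrepresentation ρ' := ⟨LinearMap.range T, fun g w hw => by
      obtain ⟨v, rfl⟩ := hw
      exact ⟨ρ g v, hT g v⟩⟩
    rcases hρ'.eq_bot_or_eq_top S with h | h
    · exact absurd (show T v0 ∈ (⊥ : Subrepresentation ρ').toSubmodule from h ▸ (⟨v0, rfl⟩ : T v0 ∈ S.toSubmodule)) hTv0
    · exact LinearMap.range_eq_top.1 (congrArg Subrepresentation.toSubmodule h)
  exact ⟨LinearEquiv.ofBijective T ⟨hinj, hsurj⟩, hT⟩

end Cfsg.Agent.Lib.SpWeil
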