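import Mathlib
import Cfsg.Agent.Lib.MinDegree.QuadOrbit

/-!
Quadratic functions of rank at least two in odd characteristic have large orbits.
-/

set_option autoImplicit false

namespace Cfsg.Agent.Lib.SpWeil

open Classical Module Finset Cfsg.Agent.Lib.MinDegree

variable {F : Type*} [Field F] [Fintype F] {V : Type*} [AddCommGroup V] [Module F V] [Fintype V]

/-- An anisotropic diagonal conic has at most `q + 1` points. -/
theorem card_conic_le {a c : F} (h : ∀ x y : F, a * x ^ 2 + c * y ^ 2 = 0 → x = 0 ∧ y = 0) (d : F) :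
    ((univ : Finset (F × F)).filter fun p => a * p.1 ^ 2 + c * p.2 ^ 2 = d).card ≤ Fintype.card F + 1 := by
  classical
  rcases ((univ : Finset (F × F)).filter fun p => a * p.1 ^ 2 + c * p.2 ^ 2 = d).eq_empty_or_nonempty with he | ⟨p0, hp0⟩
  · rw [he]; simp
  simp only [mem_filter, mem_univ, true_and] at hp0
  by_cases hd : d = 0
  · refine le_trans (Finset.card_le_one.2 fun p hp r hr => ?_) (by omega)
    simp only [mem_filter, mem_univ, true_and, hd] at hp hr
    exact Prod.ext ((h _ _ hp).1.trans (h _ _ hr).1.symm) ((h _ _ hp).2.trans (h _ _ hr).2.symm)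
  let dir : Option F → F × F := fun o => o.elim (0, 1) fun m => (1, m)
  let pt : Option F → F × F := fun o =>
    p0 + (-((2 * a * p0.1 * (dir o).1 + 2 * c * p0.2 * (dir o).2) / (a * (dir o).1 ^ 2 + c * (dir o).2 ^ 2))) • dir o
  rw [← Fintype.card_option, ← Finset.card_univ]
  refine le_trans (Finset.card_le_card (t := univ.image pt) fun p hp => ?_) Finset.card_image_le
  simp only [mem_filter, mem_univ, true_and] at hp
  rw [Finset.mem_image]
  have hne : ∀ o, a * (dir o).1 ^ 2 + c * (dir o).2 ^ 2 ≠ 0 := fun o he => by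
    obtain ⟨h1, h2⟩ := h _ _ he
    cases o <;> simp [dir] at h1 h2
  have key : ∀ o (s : F), p = p0 + s • dir o → (s = 0 → 2 * a * p0.1 * (dir o).1 + 2 * c * p0.2 * (dir o).2 = 0) →
      pt o = p := fun o s hs h0 => by
    have e : s * (s * (a * (dir o).1 ^ 2 + c * (dir o).2 ^ 2) + (2 * a * p0.1 * (dir o).1 + 2 * c * p0.2 * (dir o).2)) = 0 := by
      have := hp
      rw [hs] at this
      simp only [Prod.fst_add, Prod.snd_add, Prod.smul_fst, Prod.smul_snd, smul_eq_mul] at this
      linear_combination this - hp0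
    simp only [pt]
    conv_rhs => rw [hs]
    congr 2
    rw [neg_eq_iff_eq_neg, div_eq_iff (hne o)]
    rcases mul_eq_zero.1 e with e | e
    · rw [h0 e, e]; ring
    · linear_combination e
  by_cases hpp : p = p0
  · by_cases hc : c * p0.2 = 0
    · exact ⟨none, mem_univ _, key none 0 (by simp [hpp]) fun _ => by
        show 2 * a * p0.1 * 0 + 2 * c * p0.2 * 1 = 0
        linear_combination 2 * hc⟩
    · exact ⟨some (-(a * p0.1) / (c * p0.2)), mem_univ _, key _ 0 (by simp [hpp]) fun _ => by
        show 2 * a * p0.1 * 1 + 2 * c * p0.2 * (-(a * p0.1) / (c * p0.2)) = 0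
        rw [mul_assoc 2 c, mul_assoc 2 (c * p0.2), mul_div_cancel₀ _ hc]
        ring⟩
  · by_cases hx : p.1 = p0.1
    · refine ⟨none, mem_univ _, key none (p.2 - p0.2) (Prod.ext (by simp [dir, hx]) (by simp [dir])) fun e => ?_⟩
      exact absurd (Prod.ext hx (sub_eq_zero.1 e)) hpp
    · refine ⟨some ((p.2 - p0.2) / (p.1 - p0.1)), mem_univ _, key _ (p.1 - p0.1) (Prod.ext (by simp [dir]) ?_)
        fun e => absurd (sub_eq_zero.1 e) hx⟩
      show p.2 = p0.2 + (p.1 - p0.1) * ((p.2 - p0.2) / (p.1 - p0.1))
      rw [mul_div_cancel₀ _ (sub_ne_zero.2 hx)]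
      ring

variable {Q : V → F} {B : V →ₗ[F] V →ₗ[F] F} (hQ : IsQuad Q B)

include hQ

/-- The double count for a non-degenerate pair. -/
theorem card_orbit_ge_pair (u v : V) (lu lv : Dual F V) (β : F) (kv C0 : ℕ)
    (hlu : lu u = 1 ∧ lu v = 0) (hlv : lv u = 0 ∧ lv v = 1) (hβ : B u v = β)
    (horth : ∀ z, B u (z - lu z • u - lv z • v) = 0 ∧ B v (z - lu z • u - lv z • v) = 0)
    (hdisc : β * β - 4 * Q u * Q v ≠ 0) (hk : kv * C0 ≤ 2 * (Fintype.card F + 1))
    (hbin : ∀ d : F, ((univ : Finset (F × F)).filter fun p =>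
      Q u * p.1 ^ 2 + β * p.1 * p.2 + Q v * p.2 ^ 2 = d).card ≤ C0)
    (hdir : ∀ z : V, Q z = Q u → ((univ : Finset V).filter fun y => B z y = β).Nonempty → ∃ dd : V, B z dd = 0 ∧ B z ≠ 0 ∧
      ∀ y : V, B z y = β → ((univ : Finset F).filter fun t => Q (y + t • dd) = Q v).card ≤ kv) :
    (Fintype.card V - 1) * (Fintype.card V - Fintype.card F) ≤ 2 * (Fintype.card F + 1) * (quadOrbit F Q).card := by
  classical
  set q := Fintype.card F
  set a := Q u with ha
  set c := Q v with hc
  set cond : (V → F) → (Fin 2 → V) → Prop := fun Q' p => Q' (p 0) = a ∧ Q' (p 1) = c ∧ Q' (p 0 + p 1) = a + c + β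
  set T := (univ : Finset (Fin 2 → V)).filter fun p => cond Q p with hT
  set W := LinearMap.ker (lu.prod lv) with hW
  have hWV : Nat.card W * q ^ 2 = Fintype.card V := by
    have hsurj : Function.Surjective (lu.prod lv) := fun x =>
      ⟨x.1 • u + x.2 • v, Prod.ext (by simp [hlu.1, hlu.2]) (by simp [hlv.1, hlv.2])⟩
    have := (lu.prod lv).toAddMonoidHom.ker.card_mul_index
    rw [AddSubgroup.index_ker, AddMonoidHom.range_eq_top.2 hsurj, AddSubgroup.card_top, Nat.card_prod,
      Nat.card_eq_fintype_card (α := F), ← _root_.sq, Nat.card_eq_fintype_card (α := V)] at this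
    exact this
  have hU : ((univ : Finset V).filter fun z => Q z = a).card ≤ C0 * Nat.card W := by
    haveI := Fintype.ofFinite W
    rw [Nat.card_eq_fintype_card, ← card_univ (α := W)]
    have hmem : ∀ z : V, z - lu z • u - lv z • v ∈ W := fun z => by
      rw [hW, LinearMap.mem_ker]
      exact Prod.ext (by simp [hlu.1, hlu.2]) (by simp [hlv.1, hlv.2])
    refine Finset.card_le_mul_card_image_of_maps_to (f := fun z => (⟨_, hmem z⟩ : W)) (fun _ _ => mem_univ _) C0 fun w _ => ?_
    refine le_trans (Finset.card_le_card_of_injOn (fun z => (lu z, lv z)) (fun z hz => ?_) ?_) (hbin (a - Q w.1))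
    · simp only [Finset.mem_coe, mem_filter, mem_univ, true_and] at hz ⊢
      have hw : z - lu z • u - lv z • v = w.1 := congrArg Subtype.val hz.2
      have ho := horth z
      rw [hw] at ho
      have e : z = w.1 + (lu z • u + lv z • v) := by rw [← hw]; abel
      have h' := hz.1
      conv_lhs at h' => rw [e]
      rw [hQ.add, hQ.add, hQ.smul, hQ.smul] at h'
      simp only [map_add, map_smul, LinearMap.add_apply, LinearMap.smul_apply, smul_eq_mul, hβ, hQ.comm w.1, ho.1, ho.2,
        ← ha, ← hc] at h'
      linear_combination h'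
    · intro z hz z' hz' e
      simp only [Finset.mem_coe, mem_filter, mem_univ, true_and] at hz hz'
      have e0 := congrArg Subtype.val (hz.2.trans hz'.2.symm)
      obtain ⟨e1, e2⟩ := Prod.ext_iff.1 e
      simp only at e0 e1 e2
      rw [e1, e2] at e0
      exact sub_left_injective (sub_left_injective e0)
  have hV : ∀ z : V, Q z = a →
      ((univ : Finset V).filter fun y => Q y = c ∧ B z y = β).card * q ^ 2 ≤ kv * Fintype.card V := by
    intro z hz
    set H := (univ : Finset V).filter fun y => B z y = β with hH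
    rcases H.eq_empty_or_nonempty with he | hne
    · rw [show ((univ : Finset V).filter fun y => Q y = c ∧ B z y = β) = ∅ from Finset.eq_empty_of_forall_notMem fun y hy => by
        have : y ∈ H := by simp only [hH, mem_filter, mem_univ, true_and] at hy ⊢; exact hy.2
        rw [he] at this; simp at this]
      simp
    obtain ⟨dd, hd0, hBz, hd⟩ := hdir z hz hne
    have hHc : H.card * q = Fintype.card V := by
      obtain ⟨y1, hy1⟩ : ∃ y, B z y ≠ 0 := by
        by_contra hcon
        push Not at hcon
        exact hBz (LinearMap.ext hcon)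
      have hsurj : Function.Surjective (B z) := fun x =>
        ⟨(x / B z y1) • y1, by rw [map_smul, smul_eq_mul, div_mul_cancel₀ _ hy1]⟩
      have hfib : ∀ x, ((univ : Finset V).filter fun y => B z y = x).card = H.card := fun x => by
        obtain ⟨s, hs⟩ := hsurj (x - β)
        refine Finset.card_equiv (Equiv.subRight s) fun y => ?_
        simp [hH, hs, sub_eq_iff_eq_add]
      have hsum := Finset.card_eq_sum_card_fiberwise (s := (univ : Finset V)) (f := fun y => B z y)
        (t := univ) (fun _ _ => mem_univ _)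
      rw [Finset.sum_congr rfl fun x _ => hfib x, Finset.sum_const, card_univ, card_univ, smul_eq_mul] at hsum
      rw [hsum, mul_comm]
    have h := Finset.card_le_mul_card_image_of_maps_to
      (s := ((univ : Finset V).filter fun y => Q y = c ∧ B z y = β) ×ˢ (univ : Finset F)) (t := H)
      (f := fun x => x.1 + x.2 • dd) (fun x hx => by
        simp only [mem_product, mem_filter, mem_univ, true_and, and_true] at hx
        simp [hH, hx.2, hd0]) kv (fun y hy => by
        simp only [hH, mem_filter, mem_univ, true_and] at hy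
        refine le_trans (Finset.card_le_card_of_injOn (fun x => -x.2) (fun x hx => ?_) ?_) (hd y hy)
        · simp only [Finset.mem_coe, mem_filter, mem_product, mem_univ, true_and, and_true] at hx ⊢
          rw [← hx.2, neg_smul, add_neg_cancel_right]
          exact hx.1.1
        · intro x hx x' hx' e
          simp only [Finset.mem_coe, mem_filter] at hx hx'
          exact Prod.ext (add_right_cancel (b := x.2 • dd) (by rw [hx.2, neg_inj.1 e, hx'.2])) (neg_inj.1 e))
    rw [card_product, card_univ] at h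
    calc ((univ : Finset V).filter fun y => Q y = c ∧ B z y = β).card * q ^ 2
        = ((univ : Finset V).filter fun y => Q y = c ∧ B z y = β).card * q * q := by rw [_root_.sq, mul_assoc]
      _ ≤ kv * H.card * q := Nat.mul_le_mul_right _ h
      _ = kv * Fintype.card V := by rw [mul_assoc, hHc]
  have hN : T.card * q ^ 4 ≤ 2 * (q + 1) * Fintype.card V ^ 2 := by
    set U := (univ : Finset V).filter fun z => Q z = a
    have h1 : T.card ≤ ∑ z ∈ U, ((univ : Finset V).filter fun y => Q y = c ∧ B z y = β).card := by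
      rw [← Finset.card_sigma]
      refine Finset.card_le_card_of_injOn (fun p => ⟨p 0, p 1⟩) (fun p hp => ?_) ?_
      · simp only [hT, Finset.mem_coe, mem_filter, mem_univ, true_and, cond] at hp
        simp only [Finset.mem_coe, Finset.mem_sigma, U, mem_filter, mem_univ, true_and]
        refine ⟨hp.1, hp.2.1, ?_⟩
        have := hp.2.2
        rw [hQ.add, hp.1, hp.2.1] at this
        exact add_left_cancel this
      · intro p _ r _ e
        simp only [Sigma.mk.injEq, heq_eq_eq] at e
        funext i
        fin_cases i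
        · exact e.1
        · exact e.2
    have h3 := Nat.mul_le_mul_right (q ^ 2) h1
    rw [Finset.sum_mul] at h3
    have h4 : ∑ z ∈ U, ((univ : Finset V).filter fun y => Q y = c ∧ B z y = β).card * q ^ 2 ≤ U.card * (kv * Fintype.card V) :=
      (Finset.sum_le_card_nsmul _ _ _ fun z hz => hV z (by simpa [U] using hz)).trans_eq (smul_eq_mul _ _)
    calc T.card * q ^ 4 = T.card * q ^ 2 * q ^ 2 := by ring
      _ ≤ C0 * Nat.card W * (kv * Fintype.card V) * q ^ 2 :=
          Nat.mul_le_mul_right _ ((h3.trans h4).trans (Nat.mul_le_mul_right _ hU))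
      _ = kv * C0 * Fintype.card V * (Nat.card W * q ^ 2) := by ring
      _ = kv * C0 * Fintype.card V ^ 2 := by rw [hWV]; ring
      _ ≤ _ := Nat.mul_le_mul_right _ hk
  have habove : ∀ Q' ∈ quadOrbit F Q, (Finset.bipartiteAbove cond univ Q').card = T.card := fun Q' hQ' => by
    obtain ⟨g, rfl⟩ := mem_quadOrbit.1 hQ'
    refine Finset.card_equiv (Equiv.piCongrRight fun _ : Fin 2 => g.toEquiv) fun p => ?_
    simp [Finset.bipartiteAbove, cond, hT]
  have hind : LinearIndependent F ![u, v] := by
    rw [LinearIndependent.pair_iff]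
    intro s t h
    have e1 := congrArg lu h
    have e2 := congrArg lv h
    simp [hlu.1, hlu.2, hlv.1, hlv.2] at e1 e2
    exact ⟨e1, e2⟩
  set S := Submodule.span F (Set.range ![u, v]) with hS
  set L := S.dualAnnihilator
  have hL : Nat.card L * q ^ 2 = Fintype.card V := by
    rw [← Nat.card_eq_fintype_card, ← card_annihilator S]
    congr 1
    rw [Module.natCard_eq_pow_finrank (K := F) (V := S), hS, finrank_span_eq_card hind, Fintype.card_fin,
      Nat.card_eq_fintype_card]
  haveI : Finite L := Finite.of_injective (fun l : L => (l.1 : V → F)) fun l l' e => Subtype.ext (DFunLike.coe_injective e)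
  haveI := Fintype.ofFinite L
  have hLu : ∀ l : L, l.1 u = 0 ∧ l.1 v = 0 := fun l =>
    ⟨(Submodule.mem_dualAnnihilator _).1 l.2 u (Submodule.subset_span ⟨0, rfl⟩),
      (Submodule.mem_dualAnnihilator _).1 l.2 v (Submodule.subset_span ⟨1, rfl⟩)⟩
  set P := (univ : Finset (Fin 2 → V)).filter fun p => LinearIndependent F p with hP
  have hbelow : ∀ p ∈ P, Nat.card L * Nat.card L ≤ (Finset.bipartiteBelow cond (quadOrbit F Q) p).card := fun p hp => by
    obtain ⟨h, hh⟩ := exists_equiv_map hind (by simpa [hP] using hp : LinearIndependent F p)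
    have h0 : h u = p 0 := hh 0
    have h1 : h v = p 1 := hh 1
    rw [Nat.card_eq_fintype_card, ← Fintype.card_prod, ← card_univ]
    refine Finset.card_le_card_of_injOn
      (fun l => Q ∘ (h.symm.trans (shear2 u v l.1.1 l.2.1 (hLu l.1).1 (hLu l.1).2 (hLu l.2).1 (hLu l.2).2)))
      (fun l _ => ?_) ?_
    · simp only [Finset.mem_coe, Finset.bipartiteBelow, mem_filter, mem_quadOrbit, cond]
      refine ⟨⟨_, rfl⟩, ?_, ?_, ?_⟩
      · simp [← h0, shear2, (hLu l.1).1, (hLu l.2).1, ha]
      · simp [← h1, shear2, (hLu l.1).2, (hLu l.2).2, hc]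
      · have hs : h.symm (p 0 + p 1) = u + v := by rw [← h0, ← h1, ← map_add, h.symm_apply_apply]
        simp only [Function.comp_apply, LinearEquiv.trans_apply, hs]
        simp [shear2, (hLu l.1).1, (hLu l.1).2, (hLu l.2).1, (hLu l.2).2]
        rw [hQ.add, hβ]
    · intro l _ l' _ e
      have key : ∀ (m : L × L) (z x : V), x = u ∨ x = v →
          Q (shear2 u v m.1.1 m.2.1 (hLu m.1).1 (hLu m.1).2 (hLu m.2).1 (hLu m.2).2 (z + x)) -
          Q (shear2 u v m.1.1 m.2.1 (hLu m.1).1 (hLu m.1).2 (hLu m.2).1 (hLu m.2).2 z) =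
            Q x + B z x + m.1.1 z * B u x + m.2.1 z * B v x := fun m z x hx => by
        have hm : m.1.1 x = 0 ∧ m.2.1 x = 0 := by
          rcases hx with rfl | rfl
          exacts [⟨(hLu m.1).1, (hLu m.2).1⟩, ⟨(hLu m.1).2, (hLu m.2).2⟩]
        have e1 : shear2 u v m.1.1 m.2.1 (hLu m.1).1 (hLu m.1).2 (hLu m.2).1 (hLu m.2).2 (z + x) =
            (z + m.1.1 z • u + m.2.1 z • v) + x := by
          simp [shear2, hm.1, hm.2]; abel
        have e2 : shear2 u v m.1.1 m.2.1 (hLu m.1).1 (hLu m.1).2 (hLu m.2).1 (hLu m.2).2 z =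
            z + m.1.1 z • u + m.2.1 z • v := rfl
        rw [e1, e2, hQ.add _ x]
        simp only [map_add, map_smul, LinearMap.add_apply, LinearMap.smul_apply, smul_eq_mul]
        ring
      have hq : ∀ z, Q (shear2 u v l.1.1 l.2.1 (hLu l.1).1 (hLu l.1).2 (hLu l.2).1 (hLu l.2).2 z) =
          Q (shear2 u v l'.1.1 l'.2.1 (hLu l'.1).1 (hLu l'.1).2 (hLu l'.2).1 (hLu l'.2).2 z) := fun z => by
        have := congrFun e (h z)
        simpa using this
      have hsol : ∀ z, l.1.1 z = l'.1.1 z ∧ l.2.1 z = l'.2.1 z := fun z => by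
        have ku := key l z u (Or.inl rfl)
        have kv' := key l z v (Or.inr rfl)
        rw [hq, hq, key l' z u (Or.inl rfl), hQ.polar_self, hQ.comm v u, hβ] at ku
        rw [hq, hq, key l' z v (Or.inr rfl), hQ.polar_self, hβ] at kv'
        constructor
        · exact mul_right_cancel₀ hdisc
            (by linear_combination (2 * Q v) * ku - β * kv')
        · exact mul_right_cancel₀ hdisc
            (by linear_combination (2 * Q u) * kv' - β * ku)
      exact Prod.ext (Subtype.ext (LinearMap.ext fun z => (hsol z).1)) (Subtype.ext (LinearMap.ext fun z => (hsol z).2))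
  have hsum := Finset.sum_card_bipartiteAbove_eq_sum_card_bipartiteBelow cond (s := quadOrbit F Q) (t := univ)
  rw [Finset.sum_congr rfl habove, Finset.sum_const, smul_eq_mul] at hsum
  have hge : P.card * (Nat.card L * Nat.card L) ≤ (quadOrbit F Q).card * T.card := by
    rw [hsum, ← smul_eq_mul]
    exact le_trans (Finset.card_nsmul_le_sum _ _ _ hbelow) (Finset.sum_le_sum_of_subset (Finset.subset_univ _))
  have hn2 : 2 ≤ finrank F V := by
    have := hind.fintype_card_le_finrank
    simpa using this
  have hPc : P.card = (Fintype.card V - 1) * (Fintype.card V - q) := by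
    have := card_linearIndependent (K := F) (V := V) (k := 2) hn2
    rw [Nat.card_eq_fintype_card, Fintype.card_subtype, Fin.prod_univ_two] at this
    rw [hP, Module.card_eq_pow_finrank (K := F) (V := V)]
    simpa using this
  rw [← hPc]
  have hVpos : 0 < Fintype.card V ^ 2 := pow_pos Fintype.card_pos 2
  refine Nat.le_of_mul_le_mul_right ?_ hVpos
  calc P.card * Fintype.card V ^ 2 = P.card * (Nat.card L * Nat.card L) * q ^ 4 := by rw [← hL]; ring
    _ ≤ (quadOrbit F Q).card * T.card * q ^ 4 := Nat.mul_le_mul_right _ hge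
    _ ≤ (quadOrbit F Q).card * (2 * (q + 1) * Fintype.card V ^ 2) := by
        rw [mul_assoc]; exact Nat.mul_le_mul_left _ hN
    _ = 2 * (q + 1) * (quadOrbit F Q).card * Fintype.card V ^ 2 := by ring

/-- Either a multiple of the square of a linear form, or a large orbit. -/
theorem rank_dichotomy (h2 : (2 : F) ≠ 0) :
    (∃ (a : F) (l : Dual F V), ∀ v, Q v = a * l v ^ 2) ∨
      (Fintype.card V - 1) * (Fintype.card V - Fintype.card F) ≤ 2 * (Fintype.card F + 1) * (quadOrbit F Q).card := by
  classical
  by_cases hz : ∀ v, Q v = 0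
  · exact Or.inl ⟨0, 0, fun v => by simp [hz v]⟩
  push Not at hz
  obtain ⟨u0, hu0⟩ := hz
  by_cases hiso : ∃ u w, Q u = 0 ∧ B u w ≠ 0
  · obtain ⟨u, w, hu, hw⟩ := hiso
    obtain ⟨v0, hv0⟩ : ∃ v0, B u v0 = 1 :=
      ⟨(B u w)⁻¹ • w, by rw [map_smul, smul_eq_mul, inv_mul_cancel₀ hw]⟩
    have huu : B u u = 0 := by rw [hQ.polar_self, hu, mul_zero]
    set v := v0 + (-Q v0) • u
    have huv : B u v = 1 := by rw [map_add, map_smul, hv0, huu, smul_zero, add_zero]
    have hv : Q v = 0 := by
      rw [hQ.add, hQ.smul, hu, map_smul, smul_eq_mul, hQ.comm, hv0]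
      ring
    have hvv : B v v = 0 := by rw [hQ.polar_self, hv, mul_zero]
    have hvu : B v u = 1 := (hQ.comm v u).trans huv
    refine Or.inr (card_orbit_ge_pair hQ u v (B v) (B u) 1 1 (2 * Fintype.card F) ⟨hvu, hvv⟩ ⟨huu, huv⟩ huv
      (fun z => ?_) (by rw [hu]; simp) (by omega) (fun d => ?_) fun z hz' hne => ?_)
    · constructor <;> simp [huu, huv, hvv, hvu]
    · simpa [hu, hv] using card_binary_hyperbolic (F := F) d
    · obtain ⟨y0, hy0⟩ := hne
      simp only [mem_filter, mem_univ, true_and] at hy0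
      have hzz : B z z = 0 := by rw [hQ.polar_self, hz', hu, mul_zero]
      refine ⟨z, hzz, fun h => one_ne_zero (hy0.symm.trans (by rw [h, LinearMap.zero_apply])), fun y hy => ?_⟩
      refine Finset.card_le_one.2 fun t ht t' ht' => ?_
      simp only [mem_filter, mem_univ, true_and] at ht ht'
      rw [hQ.add, hQ.smul, hz', hu, map_smul, smul_eq_mul, hQ.comm, hy] at ht ht'
      linear_combination ht - ht'
  push Not at hiso
  set a := Q u0 with ha
  have h2a : (2 : F) * a ≠ 0 := mul_ne_zero h2 hu0
  set l : Dual F V := (2 * a)⁻¹ • B u0 with hl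
  have hlval : ∀ y, l y = (2 * a)⁻¹ * B u0 y := fun y => rfl
  have hperp : ∀ y, B u0 (y + (-l y) • u0) = 0 := fun y => by
    rw [map_add, map_smul, smul_eq_mul, hQ.polar_self, hlval, ← ha]
    field_simp
    ring
  by_cases hv' : ∀ y, Q (y + (-l y) • u0) = 0
  · refine Or.inl ⟨a, l, fun y => ?_⟩
    have := hv' y
    rw [hQ.add, hQ.smul, map_smul, smul_eq_mul, ← ha, hQ.comm, hlval] at this
    rw [hlval]
    field_simp at this ⊢
    linear_combination this
  push Not at hv'
  obtain ⟨y1, hy1⟩ := hv'
  set v := y1 + (-l y1) • u0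
  have huv : B u0 v = 0 := hperp y1
  set c := Q v with hc
  have h2c : (2 : F) * c ≠ 0 := mul_ne_zero h2 hy1
  refine Or.inr (card_orbit_ge_pair hQ u0 v l ((2 * c)⁻¹ • B v) 0 2 (Fintype.card F + 1) ⟨?_, ?_⟩ ⟨?_, ?_⟩ huv
    (fun z => ?_) ?_ le_rfl (fun d => ?_) fun z hz' _ => ?_)
  · rw [hlval, hQ.polar_self, ← ha, inv_mul_cancel₀ h2a]
  · rw [hlval, huv, mul_zero]
  · rw [LinearMap.smul_apply, hQ.comm, huv, smul_zero]
  · rw [LinearMap.smul_apply, hQ.polar_self, ← hc, smul_eq_mul, inv_mul_cancel₀ h2c]
  · have e1 : B u0 u0 = 2 * a := by rw [hQ.polar_self]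
    have e2 : B v v = 2 * c := by rw [hQ.polar_self]
    constructor
    · simp only [map_sub, map_smul, smul_eq_mul, e1, huv, hlval, mul_zero, sub_zero]
      field_simp
      ring
    · simp only [map_sub, map_smul, smul_eq_mul, e2, hQ.comm v u0, huv, LinearMap.smul_apply, mul_zero, sub_zero]
      field_simp
      ring
  · rw [zero_mul, zero_sub, neg_ne_zero]
    exact mul_ne_zero (mul_ne_zero (show (4 : F) ≠ 0 from fun h => mul_ne_zero h2 h2 (by linear_combination h)) hu0) hy1
  · simpa [← ha, ← hc] using card_conic_le (fun x y h => by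
      have hz0 : Q (x • u0 + y • v) = 0 := by
        rw [hQ.add, hQ.smul, hQ.smul, ← ha, ← hc]
        simp only [map_smul, LinearMap.smul_apply, smul_eq_mul, huv]
        linear_combination h
      have e1 := hiso _ u0 hz0
      have e2 := hiso _ v hz0
      simp only [map_add, map_smul, LinearMap.add_apply, LinearMap.smul_apply, smul_eq_mul, hQ.polar_self, ← ha, ← hc,
        hQ.comm v u0, huv, mul_zero, add_zero, zero_add] at e1 e2
      exact ⟨(mul_eq_zero.1 e1).resolve_right h2a, (mul_eq_zero.1 e2).resolve_right h2c⟩) d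
  · have hza : Q z ≠ 0 := by rw [hz']; exact hu0
    obtain ⟨dd, hd0, hdd⟩ : ∃ dd, B z dd = 0 ∧ Q dd ≠ 0 := by
      by_contra hcon
      push Not at hcon
      set lz : V → F := fun y => (2 * Q z)⁻¹ * B z y
      have hform : ∀ y w, B y w = lz y * lz w * (2 * Q z) := fun y w => by
        have hzy : B z (y + (-lz y) • z) = 0 := by
          rw [map_add, map_smul, smul_eq_mul, hQ.polar_self]
          simp only [lz]
          field_simp
          ring
        have hb := hiso _ w (hcon _ hzy)
        simp only [map_add, map_smul, LinearMap.add_apply, LinearMap.smul_apply, smul_eq_mul] at hb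
        simp only [lz] at hb ⊢
        field_simp at hb ⊢
        linear_combination hb
      have e := hform u0 v
      have e1 := hform u0 u0
      have e2 := hform v v
      rw [huv] at e
      rw [hQ.polar_self, ← ha] at e1
      rw [hQ.polar_self, ← hc] at e2
      rcases mul_eq_zero.1 e.symm with e | e
      · rcases mul_eq_zero.1 e with e | e
        · rw [e, zero_mul, zero_mul] at e1; exact h2a e1
        · rw [e, zero_mul, zero_mul] at e2; exact h2c e2
      · exact mul_ne_zero h2 hza e
    refine ⟨dd, hd0, fun h => ?_, fun y _ => ?_⟩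
    · have := hQ.polar_self z
      rw [h, LinearMap.zero_apply] at this
      exact mul_ne_zero h2 hza this.symm
    · by_contra hc3
      obtain ⟨t1, t2, t3, m1, m2, m3, n12, n13, n23⟩ := Finset.two_lt_card_iff.1 (not_le.1 hc3)
      simp only [mem_filter, mem_univ, true_and, hQ.add, hQ.smul, map_smul, smul_eq_mul] at m1 m2 m3
      have e12 : (t1 + t2) * Q dd + B y dd = 0 := (mul_eq_zero.1
        (show (t1 - t2) * ((t1 + t2) * Q dd + B y dd) = 0 by linear_combination m1 - m2)).resolve_left (sub_ne_zero.2 n12)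
      have e13 : (t1 + t3) * Q dd + B y dd = 0 := (mul_eq_zero.1
        (show (t1 - t3) * ((t1 + t3) * Q dd + B y dd) = 0 by linear_combination m1 - m3)).resolve_left (sub_ne_zero.2 n13)
      exact mul_ne_zero (sub_ne_zero.2 n23) hdd (by linear_combination e12 - e13)

end Cfsg.Agent.Lib.SpWeil
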