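import Mathlib
import Cfsg.Prelude.Def_Characters
import Cfsg.Agent.Lib.Chars.Basic
import Cfsg.Agent.Lib.SpWeil.RankTwo
import Cfsg.Agent.Lib.SpWeil.Iso

/-!
At most four non-trivial irreducible characters of `Sp_{2n}(q)` have small degree.
-/

open Classical

set_option autoImplicit false
set_option linter.unusedSectionVars false

namespace Cfsg.Agent.Lib.SpWeil

open Matrix Module Cfsg Cfsg.Agent.Lib.MinDegree

variable {F : Type*} [Field F] [Fintype F] {n : ℕ}

omit [Fintype F] in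
theorem sym_eq_sum (h2 : (2 : F) ≠ 0) (S : symMat F n) :
    S = (2 : F)⁻¹ • ∑ i, ∑ j, S.1 i j • crossVec (Pi.single i 1) (Pi.single j 1) := by
  refine Subtype.ext (Matrix.ext fun p r => ?_)
  have hs : S.1 r p = S.1 p r := congrFun (congrFun (mem_symMat.1 S.2) p) r
  simp only [Submodule.coe_smul, Submodule.coe_sum, Matrix.smul_apply, Matrix.sum_apply, crossVec, Matrix.add_apply,
    vecMulVec_apply, smul_eq_mul, Pi.single_apply, mul_add, mul_ite, mul_one, mul_zero, Finset.sum_add_distrib,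
    ite_mul, one_mul, zero_mul, Finset.sum_ite_eq, Finset.mem_univ, if_true, Finset.sum_ite_irrel, Finset.sum_const_zero]
  rw [hs]
  field_simp
  ring

/-- A functional whose quadratic function has rank one. -/
theorem functional_eq (h2 : (2 : F) ≠ 0) {L : Dual F (symMat F n)} {a : F} {l : Dual F (Fin n → F)}
    (h : ∀ v, quadFn L v = a * l v ^ 2) (S : symMat F n) :
    L S = a * ((fun i => l (Pi.single i 1)) ⬝ᵥ (S.1 *ᵥ fun i => l (Pi.single i 1))) := by
  have hB : ∀ u v, L (crossVec u v) = 2 * (a * (l u * l v)) := fun u v => by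
    have e : quadFn L (u + v) = quadFn L u + quadFn L v + L (crossVec u v) := (isQuad_quadFn L).add u v
    rw [h, h, h, map_add] at e
    linear_combination -e
  conv_lhs => rw [sym_eq_sum h2 S]
  simp only [map_smul, map_sum, hB, smul_eq_mul, dotProduct, mulVec, Finset.mul_sum]
  refine Finset.sum_congr rfl fun i _ => Finset.sum_congr rfl fun j _ => ?_
  field_simp

section Rep

variable {V : Type*} [AddCommGroup V] [Module ℂ V] [FiniteDimensional ℂ V]
  (ρ : Representation ℂ (Matrix.symplecticGroup (Fin n) F) V)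

theorem isLow_of_finrank [Fintype (symMat F n)] (h2 : (2 : F) ≠ 0)
    (hk : 2 * (Fintype.card F + 1) * finrank ℂ V <
      (Fintype.card F ^ n - 1) * (Fintype.card F ^ n - Fintype.card F)) : IsLow ρ := by
  intro φ hφ
  obtain ⟨L, hL⟩ := exists_functional φ
  rcases rank_dichotomy (isQuad_quadFn L) h2 with ⟨a, l, hl⟩ | h
  · exact ⟨a, fun i => l (Pi.single i 1), DFunLike.ext _ _ fun S => by rw [hL, qchar_apply, functional_eq h2 hl S]⟩
  · have hle := card_orbit_le_finrank ρ hφ hL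
    rw [Fintype.card_fun, Fintype.card_fin] at h
    have := Nat.mul_le_mul_left (2 * (Fintype.card F + 1)) hle
    omega

end Rep

theorem exists_GL_map {x y : Fin n → F} (hx : x ≠ 0) (hy : y ≠ 0) : ∃ A : GL (Fin n) F, A⁻¹.valᵀ *ᵥ x = y := by
  obtain ⟨e, he⟩ := exists_equiv_map (F := F) (f := fun _ : Fin 1 => x) (g := fun _ : Fin 1 => y)
    (linearIndependent_unique_iff.2 hx) (linearIndependent_unique_iff.2 hy)
  have hm : LinearMap.toMatrix' e.toLinearMap * LinearMap.toMatrix' e.symm.toLinearMap = 1 := by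
    rw [← LinearMap.toMatrix'_comp, LinearEquiv.comp_symm, LinearMap.toMatrix'_id]
  have hm' : LinearMap.toMatrix' e.symm.toLinearMap * LinearMap.toMatrix' e.toLinearMap = 1 := by
    rw [← LinearMap.toMatrix'_comp, LinearEquiv.symm_comp, LinearMap.toMatrix'_id]
  refine ⟨⟨(LinearMap.toMatrix' e.symm.toLinearMap)ᵀ, (LinearMap.toMatrix' e.toLinearMap)ᵀ,
    by rw [← transpose_mul, hm, transpose_one], by rw [← transpose_mul, hm', transpose_one]⟩, ?_⟩
  show (LinearMap.toMatrix' e.toLinearMap)ᵀᵀ *ᵥ x = y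
  rw [transpose_transpose, LinearMap.toMatrix'_mulVec]
  exact he 0

omit [Fintype F] in
theorem ringChar_ne_two (h2 : (2 : F) ≠ 0) : ringChar F ≠ 2 := fun h => h2 (by
  have := (ringChar.spec F 2).2 (by rw [h])
  simpa using this)

theorem exists_class_rep (h2 : (2 : F) ≠ 0) :
    ∃ ν : F, ν ≠ 0 ∧ ¬IsSquare ν ∧ ∀ c : F, c ≠ 0 → ∃ s : F, s ≠ 0 ∧ (c = 1 * s ^ 2 ∨ c = ν * s ^ 2) := by
  obtain ⟨ν, hν⟩ := FiniteField.exists_nonsquare (ringChar_ne_two h2)
  have hν0 : ν ≠ 0 := fun h => hν (by simp [h])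
  refine ⟨ν, hν0, hν, fun c hc => ?_⟩
  by_cases hcs : IsSquare c
  · obtain ⟨s, rfl⟩ := hcs
    exact ⟨s, left_ne_zero_of_mul hc, Or.inl (by ring)⟩
  · have hsq : IsSquare (ν * c) := by
      have hF := ringChar_ne_two h2
      rw [← quadraticChar_one_iff_isSquare (mul_ne_zero hν0 hc), map_mul,
        quadraticChar_neg_one_iff_not_isSquare.2 hν, quadraticChar_neg_one_iff_not_isSquare.2 hcs]
      norm_num
    obtain ⟨t, ht⟩ := hsq
    have ht0 : t ≠ 0 := fun h => mul_ne_zero hν0 hc (by rw [ht, h, mul_zero])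
    refine ⟨t / ν, div_ne_zero ht0 hν0, Or.inr ?_⟩
    field_simp
    linear_combination ht

theorem qchar_smul (c s : F) (x : Fin n → F) : qchar c (s • x) = qchar (c * s ^ 2) x :=
  qchar_eq_of_prod fun i j => by simp only [Pi.smul_apply, smul_eq_mul]; ring

variable (F n) in
/-- A character with a small-degree profile. -/
def HasKey [Fintype (symMat F n)] (a : Fin n) (ν : F) (χ : IrrCharacter (Matrix.symplecticGroup (Fin n) F))
    (key : Bool × Bool) : Prop :=
  ∃ (k : ℕ) (ρ : Representation ℂ (Matrix.symplecticGroup (Fin n) F) (Fin k → ℂ)), ρ.IsIrreducible ∧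
    ρ.character = (χ : Matrix.symplecticGroup (Fin n) F → ℂ) ∧ IsLow ρ ∧
    qSpace ρ (if key.1 then 1 else ν) (Pi.single a 1) ≠ ⊥ ∧
    ∀ v, ρ (siegelM (-1)) v = (if key.2 then (1 : ℂ) else -1) • v

theorem hasKey_unique [Fintype (symMat F n)] (hn : 2 ≤ n) (h2 : (2 : F) ≠ 0) {a : Fin n} {ν : F} (hν : ν ≠ 0)
    {χ χ' : IrrCharacter (Matrix.symplecticGroup (Fin n) F)} {key : Bool × Bool} (h : HasKey F n a ν χ key)
    (h' : HasKey F n a ν χ' key) : χ = χ' := by
  obtain ⟨k, ρ, hρ, hχ, hlow, hE, hε⟩ := h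
  obtain ⟨k', ρ', hρ', hχ', hlow', hE', hε'⟩ := h'
  have hc : (if key.1 then (1 : F) else ν) ≠ 0 := by split_ifs; exacts [one_ne_zero, hν]
  obtain ⟨T, hT⟩ := iso_of_low hn h2 hlow hlow' hρ hρ' hε hε' hc hE hE'
  refine Subtype.ext ?_
  rw [← hχ, ← hχ']
  funext g
  have e : ρ' g = T.conj (ρ g) := LinearMap.ext fun w => by
    rw [LinearEquiv.conj_apply_apply, hT, LinearEquiv.apply_symm_apply]
  show LinearMap.trace ℂ _ (ρ g) = LinearMap.trace ℂ _ (ρ' g)
  rw [e, LinearMap.trace_conj']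

theorem exists_key [Fintype (symMat F n)] (hn : 2 ≤ n) (h2 : (2 : F) ≠ 0) (a : Fin n) {ν : F}
    (hν : ∀ c : F, c ≠ 0 → ∃ s : F, s ≠ 0 ∧ (c = 1 * s ^ 2 ∨ c = ν * s ^ 2))
    (χ : IrrCharacter (Matrix.symplecticGroup (Fin n) F))
    (h1 : (χ : Matrix.symplecticGroup (Fin n) F → ℂ) 1 ≠ 1) {k : ℕ}
    (hk : (χ : Matrix.symplecticGroup (Fin n) F → ℂ) 1 = k)
    (hsmall : 2 * (Fintype.card F + 1) * k < (Fintype.card F ^ n - 1) * (Fintype.card F ^ n - Fintype.card F)) :
    ∃ key, HasKey F n a ν χ key := by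
  obtain ⟨m, ρ, hρ, hχ⟩ := Chars.irr_exists_rep χ
  have hm : m = k := by
    have h := congrFun hχ 1
    rw [Representation.char_one, finrank_fin_fun, hk] at h
    exact_mod_cast h
  subst hm
  have hlow : IsLow ρ := isLow_of_finrank ρ h2 (by rwa [finrank_fin_fun])
  have hq3 : 3 ≤ Fintype.card F := by
    have hodd : Fintype.card F % 2 = 1 := FiniteField.odd_card_of_char_ne_two (ringChar_ne_two h2)
    have := Fintype.one_lt_card (α := F)
    omega
  have hex : ∃ φ : AddChar (symMat F n) ℂ, φ ≠ 0 ∧ eigSpace (siegelZ ρ) φ ≠ ⊥ := by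
    by_contra hcon
    push Not at hcon
    have hU : ∀ S, ρ (siegelU S) = 1 := fun S => rep_siegelU_eq_one ρ S fun φ hφ => by
      by_cases h0 : φ = 0
      · rw [h0, AddChar.zero_apply]
      · exact absurd (hcon φ h0) hφ
    have hS : sqVec (Pi.single a (1 : F) : Fin n → F) ≠ 0 := fun h => by
      have := congrArg (fun S : symMat F n => S.1 a a) h
      simp [sqVec, vecMulVec_apply] at this
    have hall := rep_eq_one_of_siegelU hn (fun _ => hq3) ρ hS (hU _)
    refine h1 ?_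
    haveI := Chars.nontrivial_of_isIrreducible ρ
    obtain ⟨v, hv⟩ := exists_ne (0 : Fin m → ℂ)
    let S : Subrepresentation ρ := ⟨Submodule.span ℂ {v}, fun g w hw => by rw [hall g]; exact hw⟩
    rcases hρ.eq_bot_or_eq_top S with h | h
    · refine absurd ?_ hv
      have : v ∈ (⊥ : Subrepresentation ρ).toSubmodule := h ▸ (Submodule.mem_span_singleton_self v : v ∈ S.toSubmodule)
      exact this
    · have h' : Submodule.span ℂ {v} = (⊤ : Submodule ℂ (Fin m → ℂ)) := congrArg Subrepresentation.toSubmodule h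
      have := congrArg (fun P : Submodule ℂ (Fin m → ℂ) => finrank ℂ P) h'
      simp only [finrank_span_singleton hv, finrank_top, finrank_fin_fun] at this
      rw [hk, ← this, Nat.cast_one]
  obtain ⟨φ, hφ0, hφ⟩ := hex
  obtain ⟨c, x, rfl⟩ := hlow φ hφ
  obtain ⟨hc, hx⟩ := ne_zero_of_qchar hφ0
  obtain ⟨s, hs, hcs⟩ := hν c hc
  obtain ⟨A, hA⟩ := exists_GL_map (x := x) (y := s⁻¹ • (Pi.single a 1 : Fin n → F)) hx (by simp [hs])
  obtain ⟨v, hv, hv0⟩ := Submodule.exists_mem_ne_zero_of_ne_bot hφ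
  have hw := siegelM_mem ρ (show v ∈ qSpace ρ c x from hv) A
  rw [hA, qSpace, qchar_smul] at hw
  have hw0 : ρ (siegelM A) v ≠ 0 := fun h => hv0 (by
    have := congrArg (ρ (siegelM A⁻¹)) h
    rwa [map_zero, ← rep_mul, ← siegelM_mul, inv_mul_cancel, siegelM_one, map_one, Module.End.one_apply] at this)
  obtain ⟨ε, hε⟩ : ∃ ε : ℂ, ∀ w, ρ (siegelM (-1)) w = ε • w := by
    haveI := Chars.nontrivial_of_isIrreducible ρ
    obtain ⟨μ, hμ⟩ := Module.End.exists_eigenvalue (ρ (siegelM (-1 : GL (Fin n) F)))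
    have hcomm : ∀ g, g * siegelM (-1 : GL (Fin n) F) = siegelM (-1 : GL (Fin n) F) * g := fun g => by
      refine Subgroup.mem_center_iff.1 ((Classical.center_symplecticGroup n _).2 (Or.inr ?_)) g
      show fromBlocks ((-1 : GL (Fin n) F).val) 0 0 ((-1 : GL (Fin n) F)⁻¹.val)ᵀ = -1
      rw [show ((-1 : GL (Fin n) F))⁻¹ = -1 by rw [inv_neg_one]]
      simp [← fromBlocks_one, fromBlocks_neg]
    let S : Subrepresentation ρ := ⟨Module.End.eigenspace (ρ (siegelM (-1 : GL (Fin n) F))) μ, fun g w hw => by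
      rw [Module.End.mem_eigenspace_iff] at hw ⊢
      rw [← rep_mul, ← hcomm, rep_mul, hw, map_smul]⟩
    rcases hρ.eq_bot_or_eq_top S with h | h
    · exact absurd (congrArg Subrepresentation.toSubmodule h) hμ
    · refine ⟨μ, fun w => Module.End.mem_eigenspace_iff.1 ?_⟩
      show w ∈ S.toSubmodule
      rw [h]; trivial
  have hε2 : ε = 1 ∨ ε = -1 := by
    have h := rep_mul ρ (siegelM (-1)) (siegelM (-1)) (ρ (siegelM A) v)
    rw [← siegelM_mul, neg_one_mul, neg_neg, siegelM_one, map_one, Module.End.one_apply, hε, hε,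
      smul_smul] at h
    have : (ε * ε - 1) • ρ (siegelM A) v = 0 := by rw [sub_smul, one_smul, ← h, sub_self]
    exact mul_self_eq_one_iff.1 (sub_eq_zero.1 ((smul_eq_zero.1 this).resolve_right hw0))
  have hkey : ∀ r : F, c = r * s ^ 2 → qSpace ρ r (Pi.single a 1) ≠ ⊥ := fun r hr hb => hw0 (by
    have e : c * s⁻¹ ^ 2 = r := by rw [hr]; field_simp
    rw [e] at hw
    have hw' : ρ (siegelM A) v ∈ qSpace ρ r (Pi.single a 1) := hw
    rwa [hb, Submodule.mem_bot] at hw')
  rcases hcs with hcs | hcs <;> rcases hε2 with hε2 | hε2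
  · exact ⟨(true, true), m, ρ, hρ, hχ, hlow, hkey _ hcs, fun w => by rw [hε, hε2]; rfl⟩
  · exact ⟨(true, false), m, ρ, hρ, hχ, hlow, hkey _ hcs, fun w => by rw [hε, hε2]; rfl⟩
  · exact ⟨(false, true), m, ρ, hρ, hχ, hlow, hkey _ hcs, fun w => by rw [hε, hε2]; rfl⟩
  · exact ⟨(false, false), m, ρ, hρ, hχ, hlow, hkey _ hcs, fun w => by rw [hε, hε2]; rfl⟩

/-- At most four non-trivial characters of small degree. -/
theorem card_low_le (hn : 2 ≤ n) (h2 : (2 : F) ≠ 0) :
    Nat.card {χ : IrrCharacter (Matrix.symplecticGroup (Fin n) F) //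
      (χ : Matrix.symplecticGroup (Fin n) F → ℂ) 1 ≠ 1 ∧
      ∃ k : ℕ, (χ : Matrix.symplecticGroup (Fin n) F → ℂ) 1 = k ∧
        2 * (Fintype.card F + 1) * k < (Fintype.card F ^ n - 1) * (Fintype.card F ^ n - Fintype.card F)} ≤ 4 := by
  haveI := Fintype.ofFinite (symMat F n)
  obtain ⟨ν, hν0, -, hν⟩ := exists_class_rep h2
  let a : Fin n := ⟨0, by omega⟩
  have hex := fun x : {χ : IrrCharacter (Matrix.symplecticGroup (Fin n) F) //
      (χ : Matrix.symplecticGroup (Fin n) F → ℂ) 1 ≠ 1 ∧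
      ∃ k : ℕ, (χ : Matrix.symplecticGroup (Fin n) F → ℂ) 1 = k ∧
        2 * (Fintype.card F + 1) * k < (Fintype.card F ^ n - 1) * (Fintype.card F ^ n - Fintype.card F)} =>
    exists_key hn h2 a hν x.1 x.2.1 x.2.2.choose_spec.1 x.2.2.choose_spec.2
  choose f hf using hex
  refine (Nat.card_le_card_of_injective f fun x y h => ?_).trans (by simp)
  exact Subtype.ext (hasKey_unique hn h2 hν0 (hf x) (h ▸ hf y))

end Cfsg.Agent.Lib.SpWeil
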