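import Mathlib
import Cfsg.Agent.Lib.SpWeil.Low
import Cfsg.Agent.Lib.SpWeil.Exist

/-!
The four Weil characters of `Sp_{2n}(q)` and the degree gap.
-/

open Classical

set_option autoImplicit false
set_option linter.unusedSectionVars false

namespace Cfsg.Agent.Lib.SpWeil

open Matrix Module Cfsg Cfsg.Agent.Lib.MinDegree

variable {F : Type*} [Field F] [Fintype F] {n : ℕ}

theorem char_twist_ne (h2 : (2 : F) ≠ 0) (hn : 2 ≤ n) {V : Type*} [AddCommGroup V] [Module ℂ V]
    [FiniteDimensional ℂ V] {ρ : Representation ℂ (Matrix.symplecticGroup (Fin n) F) V} (hρ : ρ.IsIrreducible)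
    {ι : V →ₗ[ℂ] WFun F n} (hι : Function.Injective ι) (hιρ : ∀ g v, ι (ρ g v) = fullOp h2 g (ι v))
    {ν : F} (hν : ν ≠ 0) (hsq : ¬IsSquare ν) {b : Fin n} {δ : V} (hδ : δ ≠ 0)
    (hsupp : ∀ x, ι δ x ≠ 0 → x b ^ 2 = 1) :
    ρ.character ≠ Representation.character
      (ρ.comp (twist hν) : Representation ℂ (Matrix.symplecticGroup (Fin n) F) V) := by
  intro h
  haveI := hρ
  haveI := irreducible_twist hρ hν
  obtain ⟨φ⟩ := Chars.equiv_of_irreducible_of_char_eq
    (ρ.comp (twist hν) : Representation ℂ (Matrix.symplecticGroup (Fin n) F) V) ρ h.symm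
  set T : V ≃ₗ[ℂ] V := φ.toLinearEquiv with hT
  have hTg : ∀ g v, T (ρ g v) = ρ (twist hν g) (T v) := fun g v =>
    Representation.IntertwiningMap.isIntertwining _ _ φ.toIntertwiningMap g v
  have hf : ι (T δ) ≠ 0 := fun h0 => hδ (T.injective (by
    rw [map_zero]; exact hι (by rw [h0, map_zero])))
  obtain ⟨t, ht⟩ := phase_eq_of_twist h2 hn hν hsq b hf
  refine ht ?_
  have heig : ρ (siegelL (t • sqVec (Pi.single b (1 : F)))) δ =
      (lamL h2 (t • sqVec (Pi.single b (1 : F))) * psi0 F (-((2 : F)⁻¹ * t))) • δ := by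
    refine hι ?_
    rw [hιρ, fullOp_siegelL, map_smul, LinearMap.smul_apply, ← smul_smul]
    congr 1
    funext x
    show psi0 F (-((2 : F)⁻¹ * (x ⬝ᵥ ((t • sqVec (Pi.single b (1 : F)) : symMat F n).1 *ᵥ x)))) * ι δ x =
      psi0 F (-((2 : F)⁻¹ * t)) * ι δ x
    by_cases hx : ι δ x = 0
    · rw [hx, mul_zero, mul_zero]
    · rw [qform_sq, single_dotProduct, one_mul, hsupp x hx]
      congr 2
      ring
  have := congrArg ι (congrArg T heig)
  rw [hTg, twist_siegelL hν, hιρ, map_smul, map_smul] at this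
  exact this

theorem bound_small (hq : 3 ≤ Fintype.card F) (hn : 2 ≤ n) {k : ℕ} (hk : 2 * k ≤ Fintype.card F ^ n + 1) :
    2 * (Fintype.card F + 1) * k < (Fintype.card F ^ n - 1) * (Fintype.card F ^ n - Fintype.card F) := by
  set q := Fintype.card F
  have hQ : q * q ≤ q ^ n := by
    rw [← sq]
    exact Nat.pow_le_pow_right (by omega) hn
  have hqQ : 2 * q + 3 ≤ q ^ n := le_trans (by nlinarith) hQ
  obtain ⟨r, hr⟩ := Nat.exists_eq_add_of_le hqQ
  rw [show q ^ n - 1 = 2 * q + 2 + r by omega, show q ^ n - q = q + 3 + r by omega]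
  calc 2 * (q + 1) * k = (q + 1) * (2 * k) := by ring
    _ ≤ (q + 1) * (q ^ n + 1) := Nat.mul_le_mul_left _ hk
    _ < (2 * q + 2 + r) * (q + 3 + r) := by rw [hr]; nlinarith

theorem weil_four (h2 : (2 : F) ≠ 0) (hn : 2 ≤ n) :
    ∃ e1 e2 o1 o2 : IrrCharacter (Matrix.symplecticGroup (Fin n) F),
      e1 ≠ e2 ∧ o1 ≠ o2 ∧
      (∀ χ ∈ ([e1, e2] : List _), (χ : Matrix.symplecticGroup (Fin n) F → ℂ) 1 = ((Fintype.card F ^ n + 1 : ℕ) : ℂ) / 2) ∧
      (∀ χ ∈ ([o1, o2] : List _), (χ : Matrix.symplecticGroup (Fin n) F → ℂ) 1 = ((Fintype.card F ^ n - 1 : ℕ) : ℂ) / 2) := by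
  obtain ⟨ν, hν, hsq, -⟩ := exists_class_rep h2
  let b : Fin n := ⟨0, by omega⟩
  set eb : Fin n → F := Pi.single b 1 with heb
  have hne : eb ≠ -eb := fun h => by
    have h' := congrFun h b
    simp [heb] at h'
    exact h2 (by linear_combination h')
  haveI : (evenRep (n := n) h2).IsIrreducible := evenRep_irreducible h2
  haveI : (weilRep (n := n) h2).IsIrreducible := weilRep_irreducible h2 (by omega)
  haveI he' := irreducible_twist (evenRep_irreducible (n := n) h2) hν
  haveI ho' := irreducible_twist (weilRep_irreducible (n := n) h2 (by omega)) hν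
  have hsupp : ∀ (s : ℂ) (x : Fin n → F), (Pi.single eb 1 + s • Pi.single (-eb) 1 : WFun F n) x ≠ 0 → x b ^ 2 = 1 := by
    intro s x hx
    by_cases h1 : x = eb
    · rw [h1]; simp [heb]
    · by_cases h3 : x = -eb
      · rw [h3]; simp [heb]
      · simp [h1, h3] at hx
  have hdne : ∀ s : ℂ, (Pi.single eb 1 + s • Pi.single (-eb) 1 : WFun F n) ≠ 0 := fun s h => by
    have := congrFun h eb
    simp [hne] at this
  have hev : (Pi.single eb 1 + (1 : ℂ) • Pi.single (-eb) 1 : WFun F n) ∈ evenSub F n := by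
    rw [evenSub, LinearMap.mem_ker]
    funext x
    simp only [LinearMap.sub_apply, Module.End.one_apply, Pi.sub_apply, parityOp_apply, Pi.add_apply, one_smul,
      Pi.single_apply, Pi.zero_apply, neg_inj, neg_eq_iff_eq_neg]
    ring
  have hod : (Pi.single eb 1 + (-1 : ℂ) • Pi.single (-eb) 1 : WFun F n) ∈ oddSub F n := by
    refine mem_oddSub.2 fun x => ?_
    simp only [Pi.add_apply, Pi.smul_apply, smul_eq_mul, Pi.single_apply, neg_inj, neg_eq_iff_eq_neg]
    ring
  refine ⟨Chars.toIrr (evenRep h2), Chars.toIrr ((evenRep h2).comp (twist hν) :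
      Representation ℂ (Matrix.symplecticGroup (Fin n) F) (evenSub F n)), Chars.toIrr (weilRep h2),
    Chars.toIrr ((weilRep h2).comp (twist hν) :
      Representation ℂ (Matrix.symplecticGroup (Fin n) F) (oddSub F n)), fun h => ?_, fun h => ?_, ?_, ?_⟩
  · refine char_twist_ne h2 hn (evenRep_irreducible h2) (ι := (evenSub F n).subtype) Subtype.val_injective
      (fun g v => rfl) hν hsq (b := b) (δ := ⟨_, hev⟩) (fun h0 => hdne 1 (congrArg Subtype.val h0))
      (fun x hx => hsupp 1 x hx) (congrArg Subtype.val h)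
  · refine char_twist_ne h2 hn (weilRep_irreducible h2 (by omega)) (ι := (oddSub F n).subtype) Subtype.val_injective
      (fun g v => rfl) hν hsq (b := b) (δ := ⟨_, hod⟩) (fun h0 => hdne (-1) (congrArg Subtype.val h0))
      (fun x hx => hsupp (-1) x hx) (congrArg Subtype.val h)
  · intro χ hχ
    simp only [List.mem_cons, List.not_mem_nil, or_false] at hχ
    rcases hχ with rfl | rfl <;>
    · rw [Chars.toIrr_coe, Representation.char_one, eq_div_iff two_ne_zero, ← finrank_evenSub (n := n) h2]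
      push_cast
      ring
  · intro χ hχ
    simp only [List.mem_cons, List.not_mem_nil, or_false] at hχ
    rcases hχ with rfl | rfl <;>
    · rw [Chars.toIrr_coe, Representation.char_one, eq_div_iff two_ne_zero,
        show Fintype.card F ^ n - 1 = 2 * finrank ℂ (oddSub F n) by have := finrank_oddSub (n := n) h2; omega]
      push_cast
      ring

/-- The Weil characters and the gap. -/
theorem weil_gap (hodd : Odd (Fintype.card F)) (hn : 2 ≤ n) :
    Nat.card {χ : IrrCharacter (Matrix.symplecticGroup (Fin n) F) //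
      (χ : Matrix.symplecticGroup (Fin n) F → ℂ) 1 = ((Fintype.card F ^ n + 1 : ℕ) : ℂ) / 2} = 2 ∧
    Nat.card {χ : IrrCharacter (Matrix.symplecticGroup (Fin n) F) //
      (χ : Matrix.symplecticGroup (Fin n) F → ℂ) 1 = ((Fintype.card F ^ n - 1 : ℕ) : ℂ) / 2} = 2 ∧
    ∀ χ : IrrCharacter (Matrix.symplecticGroup (Fin n) F),
      (χ : Matrix.symplecticGroup (Fin n) F → ℂ) 1 ≠ 1 →
      (χ : Matrix.symplecticGroup (Fin n) F → ℂ) 1 ≠ ((Fintype.card F ^ n + 1 : ℕ) : ℂ) / 2 →
      (χ : Matrix.symplecticGroup (Fin n) F → ℂ) 1 ≠ ((Fintype.card F ^ n - 1 : ℕ) : ℂ) / 2 →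
      ((Fintype.card F ^ n - 1 : ℕ) : ℝ) * ((Fintype.card F ^ n - Fintype.card F : ℕ) : ℝ) /
        (2 * ((Fintype.card F : ℕ) + 1 : ℝ)) ≤ ‖(χ : Matrix.symplecticGroup (Fin n) F → ℂ) 1‖ := by
  have h2 : (2 : F) ≠ 0 := by
    refine Ring.two_ne_zero fun h => ?_
    have h' := FiniteField.even_card_of_char_two h
    obtain ⟨m, hm⟩ := hodd
    omega
  have hq : 3 ≤ Fintype.card F := by
    have := Fintype.one_lt_card (α := F)
    obtain ⟨m, hm⟩ := hodd
    omega
  set q := Fintype.card F with hqdef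
  have hQ : 9 ≤ q ^ n := le_trans (by nlinarith) (Nat.pow_le_pow_right (by omega) hn)
  set A : ℂ := ((q ^ n + 1 : ℕ) : ℂ) / 2 with hA
  set B : ℂ := ((q ^ n - 1 : ℕ) : ℂ) / 2 with hB
  have hAB : A ≠ B := by
    rw [hA, hB, ne_eq, div_left_inj' two_ne_zero, Nat.cast_inj]
    omega
  obtain ⟨e1, e2, o1, o2, hee, hoo, he, ho⟩ := weil_four (n := n) h2 hn
  have he1 := he e1 (by simp)
  have he2 := he e2 (by simp)
  have ho1 := ho o1 (by simp)
  have ho2 := ho o2 (by simp)
  set Small := fun χ : IrrCharacter (Matrix.symplecticGroup (Fin n) F) =>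
    (χ : Matrix.symplecticGroup (Fin n) F → ℂ) 1 ≠ 1 ∧
      ∃ k : ℕ, (χ : Matrix.symplecticGroup (Fin n) F → ℂ) 1 = k ∧
        2 * (q + 1) * k < (q ^ n - 1) * (q ^ n - q) with hSmall
  have hsm : ∀ χ : IrrCharacter (Matrix.symplecticGroup (Fin n) F),
      (χ : Matrix.symplecticGroup (Fin n) F → ℂ) 1 = A ∨ (χ : Matrix.symplecticGroup (Fin n) F → ℂ) 1 = B →
      Small χ := by
    intro χ hχ
    obtain ⟨k, -, hk⟩ := Chars.isIrrCharacter_exists_degree_pos χ.2
    have h : 2 * k = q ^ n + 1 ∨ 2 * k = q ^ n - 1 := by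
      rcases hχ with h | h
      · left
        rw [hk, hA, eq_div_iff two_ne_zero] at h
        rw [← Nat.cast_inj (R := ℂ), Nat.cast_mul, ← h]; push_cast; ring
      · right
        rw [hk, hB, eq_div_iff two_ne_zero] at h
        rw [← Nat.cast_inj (R := ℂ), Nat.cast_mul, ← h]; push_cast; ring
    refine ⟨?_, k, hk, bound_small hq hn (show 2 * k ≤ q ^ n + 1 by omega)⟩
    rw [hk, ne_eq, Nat.cast_eq_one]
    omega
  have hle : Nat.card {χ // Small χ} ≤ 4 := card_low_le hn h2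
  have hd : ∀ {x y : IrrCharacter (Matrix.symplecticGroup (Fin n) F)},
      (x : Matrix.symplecticGroup (Fin n) F → ℂ) 1 = A → (y : Matrix.symplecticGroup (Fin n) F → ℂ) 1 = B → x ≠ y :=
    fun hx hy e => hAB (by rw [← hx, ← hy, e])
  have hall : ∀ χ, Small χ → χ = e1 ∨ χ = e2 ∨ χ = o1 ∨ χ = o2 := by
    intro χ hχ
    by_contra hcon
    simp only [not_or] at hcon
    obtain ⟨c1, c2, c3, c4⟩ := hcon
    let f : Fin 5 → {χ // Small χ} := ![⟨χ, hχ⟩, ⟨e1, hsm _ (Or.inl he1)⟩, ⟨e2, hsm _ (Or.inl he2)⟩,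
      ⟨o1, hsm _ (Or.inr ho1)⟩, ⟨o2, hsm _ (Or.inr ho2)⟩]
    have hf : Function.Injective f := by
      intro i j hij
      have h := congrArg Subtype.val hij
      fin_cases i <;> fin_cases j <;>
        simp [f, c1, c2, c3, c4, Ne.symm c1, Ne.symm c2, Ne.symm c3, Ne.symm c4, hee, Ne.symm hee, hoo, Ne.symm hoo,
          hd he1 ho1, hd he1 ho2, hd he2 ho1, hd he2 ho2, (hd he1 ho1).symm, (hd he1 ho2).symm, (hd he2 ho1).symm,
          (hd he2 ho2).symm] at h ⊢
    have := Nat.card_le_card_of_injective f hf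
    rw [Nat.card_eq_fintype_card, Fintype.card_fin] at this
    omega
  have hset1 : {χ : IrrCharacter (Matrix.symplecticGroup (Fin n) F) |
      (χ : Matrix.symplecticGroup (Fin n) F → ℂ) 1 = A} = {e1, e2} := by
    ext χ
    simp only [Set.mem_setOf_eq, Set.mem_insert_iff, Set.mem_singleton_iff]
    refine ⟨fun h => ?_, ?_⟩
    · rcases hall χ (hsm χ (Or.inl h)) with e | e | e | e
      · exact Or.inl e
      · exact Or.inr e
      · exact absurd e (hd h ho1)
      · exact absurd e (hd h ho2)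
    · rintro (rfl | rfl)
      exacts [he1, he2]
  have hset2 : {χ : IrrCharacter (Matrix.symplecticGroup (Fin n) F) |
      (χ : Matrix.symplecticGroup (Fin n) F → ℂ) 1 = B} = {o1, o2} := by
    ext χ
    simp only [Set.mem_setOf_eq, Set.mem_insert_iff, Set.mem_singleton_iff]
    refine ⟨fun h => ?_, ?_⟩
    · rcases hall χ (hsm χ (Or.inr h)) with e | e | e | e
      · exact absurd e.symm (hd he1 h)
      · exact absurd e.symm (hd he2 h)
      · exact Or.inl e
      · exact Or.inr e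
    · rintro (rfl | rfl)
      exacts [ho1, ho2]
  refine ⟨?_, ?_, fun χ h1 hA' hB' => ?_⟩
  · rw [← Set.coe_ofPred, Nat.card_coe_set_eq, hset1, Set.ncard_pair hee]
  · rw [← Set.coe_ofPred, Nat.card_coe_set_eq, hset2, Set.ncard_pair hoo]
  · obtain ⟨k, -, hk⟩ := Chars.isIrrCharacter_exists_degree_pos χ.2
    rw [hk, Complex.norm_natCast, div_le_iff₀ (by positivity)]
    have hge : (q ^ n - 1) * (q ^ n - q) ≤ 2 * (q + 1) * k := by
      by_contra hlt
      rcases hall χ ⟨h1, k, hk, not_le.1 hlt⟩ with rfl | rfl | rfl | rfl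
      exacts [hA' he1, hA' he2, hB' ho1, hB' ho2]
    calc ((q ^ n - 1 : ℕ) : ℝ) * ((q ^ n - q : ℕ) : ℝ) ≤ ((2 * (q + 1) * k : ℕ) : ℝ) := by exact_mod_cast hge
      _ = _ := by push_cast; ring

end Cfsg.Agent.Lib.SpWeil
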